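import Mathlib
import Cfsg.Agent.Lib.LocStr.CubicLoc

/-!
Goldschmidt amalgams: groups acting on a bipartite cubic graph; arcs and their transitivity.
-/

set_option autoImplicit false
set_option linter.unusedSectionVars false

namespace CfsgLib.Gam

open Subgroup MulAction CfsgLib.LAE
open scoped commutatorElement

section grp
variable {G : Type*} [Group G]

theorem cj_eq {g x : G} (h : Commute g x) : g * x * g⁻¹ = x := by rw [h.eq]; simp

theorem comm_of_cj {g x : G} (h : g * x * g⁻¹ = x) : Commute g x := by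
  rw [mul_inv_eq_iff_eq_mul] at h; exact h

theorem card_le_two_mul {H : Subgroup G} [Finite H] (K : Subgroup G)
    (h : ∀ x ∈ H, ∀ y ∈ H, x ∉ K → y ∉ K → x * y ∈ K) :
    Nat.card H ≤ 2 * Nat.card (H ⊓ K : Subgroup G) := by
  by_cases hle : H ≤ K
  · rw [inf_of_le_left hle]; omega
  · have h2 := LocStr.relIndex_two_of_mul_mem hle h
    have h3 := (K.subgroupOf H).card_mul_index
    rw [← relIndex, h2, ← inf_subgroupOf_left,
      Nat.card_congr (subgroupOfEquivOfLe (inf_le_left : H ⊓ K ≤ H)).toEquiv] at h3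
    omega

theorem card_le_mul_centralizer {H Z : Subgroup G} [Finite H] [Finite Z] (x : G)
    (h : ∀ q ∈ H, ⁅q, x⁆ ∈ Z) :
    Nat.card H ≤ Nat.card Z * Nat.card (H ⊓ centralizer {x} : Subgroup G) := by
  have h3 := ((centralizer ({x} : Set G)).subgroupOf H).card_mul_index
  rw [← inf_subgroupOf_left,
    Nat.card_congr (subgroupOfEquivOfLe (inf_le_left : H ⊓ centralizer {x} ≤ H)).toEquiv,
    inf_subgroupOf_left] at h3
  rw [← h3, mul_comm]
  refine Nat.mul_le_mul_right _ ?_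
  rw [index]
  refine Nat.card_le_card_of_injective
    (fun c => (⟨⁅((c.out : H) : G), x⁆, h _ c.out.2⟩ : Z)) fun c d hcd => ?_
  rw [← c.out_eq, ← d.out_eq]
  refine QuotientGroup.eq.2 ?_
  have e : ⁅((c.out : H) : G), x⁆ = ⁅((d.out : H) : G), x⁆ := congrArg Subtype.val hcd
  rw [mem_subgroupOf, mem_centralizer_singleton_iff]
  simp only [commutatorElement_def, mul_left_inj] at e
  simp only [Subgroup.coe_mul, Subgroup.coe_inv]
  calc _ = (c.out : G)⁻¹ * ((d.out : G) * x * (d.out : G)⁻¹) * d.out := by group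
    _ = _ := by rw [← e]; group

end grp

/-- A group acting on a bipartite cubic graph, vertex stabilisers inducing `S₃`. -/
structure Cub {G V : Type*} [Group G] [MulAction G V] (Γ : SimpleGraph V) (A : V → Prop)
    (Q : V → Subgroup G) : Prop where
  conn : Γ.Connected
  adj_smul : ∀ {a b : V} (g : G), Γ.Adj a b → Γ.Adj (g • a) (g • b)
  trans : ∀ {d a b : V}, Γ.Adj d a → Γ.Adj d b → ∃ g ∈ stabilizer G d, g • a = b
  three : ∀ {d a b c e : V}, Γ.Adj d a → Γ.Adj d b → Γ.Adj d c → Γ.Adj d e → a ≠ b → a ≠ c →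
    b ≠ c → e = a ∨ e = b ∨ e = c
  exists_two : ∀ {d a : V}, Γ.Adj d a → ∃ b c, Γ.Adj d b ∧ Γ.Adj d c ∧ a ≠ b ∧ a ≠ c ∧ b ≠ c
  exists_adj : ∀ a : V, ∃ b, Γ.Adj a b
  orbit : ∀ {a c : V}, (A a ↔ A c) → ∃ g : G, g • a = c
  A_smul : ∀ (g : G) (a : V), A (g • a) ↔ A a
  A_adj : ∀ {a b : V}, Γ.Adj a b → (A a ↔ ¬ A b)
  fin : ∀ a : V, Finite (stabilizer G a)
  Q_smul : ∀ (g : G) (a : V), Q (g • a) = conjS g (Q a)
  Q_le_self : ∀ a, Q a ≤ stabilizer G a
  Q_le : ∀ {a b : V}, Γ.Adj a b → Q a ≤ stabilizer G b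
  mem_Q : ∀ {d a b : V} {g : G}, Γ.Adj d a → Γ.Adj d b → a ≠ b → g ∈ stabilizer G d →
    g ∈ stabilizer G a → g ∈ stabilizer G b → g ∈ Q d
  mul_mem : ∀ {d a : V} {x y : G}, Γ.Adj d a → x ∈ stabilizer G d → x ∈ stabilizer G a →
    y ∈ stabilizer G d → y ∈ stabilizer G a → x ∉ Q d → y ∉ Q d → x * y ∈ Q d
  le_of_max : ∀ {d a : V} {g : G} {K : Subgroup G}, Γ.Adj d a → g ∈ stabilizer G d →
    g ∉ stabilizer G a → stabilizer G d ⊓ stabilizer G a ≤ K → g ∈ K → stabilizer G d ≤ K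
  faithful : ∀ {a b : V} {N : Subgroup G}, Γ.Adj a b → N ≤ stabilizer G a ⊓ stabilizer G b →
    stabilizer G a ≤ normalizer (N : Set G) → stabilizer G b ≤ normalizer (N : Set G) → N = ⊥

/-- Intersection over the neighbours. -/
def I {G V : Type*} [Group G] (Γ : SimpleGraph V) (F : V → Subgroup G) (a : V) : Subgroup G :=
  ⨅ x, ⨅ (_ : Γ.Adj a x), F x

theorem mem_I {G V : Type*} [Group G] {Γ : SimpleGraph V} {F : V → Subgroup G} {a : V} {g : G} :
    g ∈ I Γ F a ↔ ∀ x, Γ.Adj a x → g ∈ F x := by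
  simp [I, mem_iInf]

/-- Equivariance of a family of subgroups. -/
def Eqv {G V : Type*} [Group G] [MulAction G V] (F : V → Subgroup G) : Prop :=
  ∀ (g x : G) (a : V), x ∈ F a → g * x * g⁻¹ ∈ F (g • a)

theorem Eqv.self {G V : Type*} [Group G] [MulAction G V] {F : V → Subgroup G} (hF : Eqv F) {g x : G}
    {a : V} (hg : g ∈ stabilizer G a) (hx : x ∈ F a) : g * x * g⁻¹ ∈ F a := by
  have := hF g x a hx
  rwa [mem_stabilizer_iff.1 hg] at this

theorem Eqv.of_eq {G V : Type*} [Group G] [MulAction G V] {F : V → Subgroup G} (hF : Eqv F) {g x : G}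
    {a b : V} (hg : g • a = b) (hx : x ∈ F a) : g * x * g⁻¹ ∈ F b := hg ▸ hF g x a hx

theorem Eqv.back {G V : Type*} [Group G] [MulAction G V] {F : V → Subgroup G} (hF : Eqv F) {g x : G}
    {a b : V} (hg : g • a = b) (hx : g * x * g⁻¹ ∈ F b) : x ∈ F a := by
  have := hF g⁻¹ _ b hx
  rw [← hg, inv_smul_smul] at this
  simpa [mul_assoc] using this

theorem Eqv.norm {G V : Type*} [Group G] [MulAction G V] {F : V → Subgroup G} (hF : Eqv F) (a : V) :
    stabilizer G a ≤ normalizer (F a : Set G) :=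
  LocStr.le_normalizer_of_forall fun _ hg _ hx => hF.self hg hx

theorem Eqv.inf {G V : Type*} [Group G] [MulAction G V] {F F' : V → Subgroup G} (hF : Eqv F)
    (hF' : Eqv F') : Eqv (fun a => F a ⊓ F' a) :=
  fun g x a hx => ⟨hF g x a hx.1, hF' g x a hx.2⟩

/-- Bi-infinite non-backtracking walks. -/
def Arc {V : Type*} (Γ : SimpleGraph V) (v : ℤ → V) : Prop :=
  ∀ i, Γ.Adj (v i) (v (i + 1)) ∧ v i ≠ v (i + 2)

namespace Arc
variable {V : Type*} {Γ : SimpleGraph V} {v : ℤ → V} (h : Arc Γ v)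
include h

theorem adj (i j : ℤ) (e : j = i + 1 ∨ i = j + 1 := by omega) : Γ.Adj (v i) (v j) := by
  rcases e with rfl | rfl
  · exact (h i).1
  · exact (h j).1.symm

theorem ne (i j : ℤ) (e : j = i + 2 ∨ i = j + 2 := by omega) : v i ≠ v j := by
  rcases e with rfl | rfl
  · exact (h i).2
  · exact (h j).2.symm

theorem shift (c : ℤ) : Arc Γ (fun i => v (i + c)) := fun i => ⟨h.adj _ _, h.ne _ _⟩

theorem rev (c : ℤ) : Arc Γ (fun i => v (c - i)) := fun i => ⟨h.adj _ _, h.ne _ _⟩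

theorem glue {w : ℤ → V} (hw : Arc Γ w) (j : ℤ) (h0 : w j = v j) (h1 : w (j - 1) ≠ v (j + 1)) :
    Arc Γ (fun i => if j ≤ i then v i else w i) := fun i => by
  refine ⟨?_, ?_⟩
  · by_cases h2 : j ≤ i
    · simp only [h2, show j ≤ i + 1 by omega, if_true]; exact h.adj _ _
    · by_cases h3 : j ≤ i + 1
      · simp only [h2, h3, if_true, if_false]
        rw [show i + 1 = j by omega, ← h0]; exact hw.adj _ _
      · simp only [h2, h3, if_false]; exact hw.adj _ _
  · by_cases h2 : j ≤ i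
    · simp only [h2, show j ≤ i + 2 by omega, if_true]; exact h.ne _ _
    · by_cases h3 : j ≤ i + 2
      · simp only [h2, h3, if_true, if_false]
        by_cases h4 : j = i + 2
        · rw [← h4, ← h0]; exact hw.ne _ _
        · rw [show i = j - 1 by omega, show j - 1 + 2 = j + 1 by omega]; exact h1
      · simp only [h2, h3, if_false]; exact hw.ne _ _

end Arc

/-- Distance at most `n`. -/
def Nr {V : Type*} (Γ : SimpleGraph V) (n : ℤ) (x y : V) : Prop := (Γ.dist x y : ℤ) ≤ n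

theorem Nr.symm {V : Type*} {Γ : SimpleGraph V} {n : ℤ} {x y : V} (h : Nr Γ n x y) : Nr Γ n y x := by
  unfold Nr at *; rwa [Γ.dist_comm]

theorem Nr.refl {V : Type*} (Γ : SimpleGraph V) (x : V) : Nr Γ 0 x x := by simp [Nr]

theorem Nr.of_adj {V : Type*} {Γ : SimpleGraph V} {x y : V} (h : Γ.Adj x y) : Nr Γ 1 x y := by
  simp [Nr, SimpleGraph.dist_eq_one_iff_adj.2 h]

/-- The stabiliser of the piece `v i, …, v j` of an arc moves the next vertex. -/
def Free {G V : Type*} [Group G] [MulAction G V] (Q : V → Subgroup G) (v : ℤ → V) (i j : ℤ) : Prop :=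
  ∃ g : G, (∀ k, i ≤ k → k ≤ j → g ∈ stabilizer G (v k)) ∧ g ∉ Q (v j)

namespace Cub

variable {G V : Type*} [Group G] [MulAction G V] {Γ : SimpleGraph V} {A : V → Prop}
  {Q : V → Subgroup G} (h : Cub Γ A Q)
include h

theorem eqQ : Eqv Q := fun g x a hx => by rw [h.Q_smul]; exact conj_mem_conjS.2 hx

omit h in
theorem eqS : Eqv (fun a : V => stabilizer G a) := fun g x a hx => by
  show _ ∈ stabilizer G (g • a)
  rw [stabilizer_smul_eq]; exact conj_mem_conjS.2 hx

theorem eqI {F : V → Subgroup G} (hF : Eqv F) : Eqv (I Γ F) := fun g x a hx =>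
  mem_I.2 fun y hy => by
    have h1 := h.adj_smul g⁻¹ hy
    rw [inv_smul_smul] at h1
    exact hF.of_eq (smul_inv_smul g y) (mem_I.1 hx _ h1)

theorem adj_self {d a : V} {g : G} (hg : g ∈ stabilizer G d) (ha : Γ.Adj d a) : Γ.Adj d (g • a) := by
  have := h.adj_smul g ha
  rwa [mem_stabilizer_iff.1 hg] at this

theorem finQ (a : V) : Finite (Q a) := have := h.fin a; finite_of_le (h.Q_le_self a)

theorem exists_third {d a : V} (ha : Γ.Adj d a) (b : V) :
    ∃ c, Γ.Adj d c ∧ c ≠ a ∧ c ≠ b := by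
  obtain ⟨x, y, hx, hy, h1, h2, h3⟩ := h.exists_two ha
  by_cases e : x = b
  · exact ⟨y, hy, h2.symm, e ▸ h3.symm⟩
  · exact ⟨x, hx, h1.symm, e⟩

theorem exists_other {d a : V} (ha : Γ.Adj d a) : ∃ c, Γ.Adj d c ∧ c ≠ a := by
  obtain ⟨c, h1, h2, -⟩ := h.exists_third ha a
  exact ⟨c, h1, h2⟩

/-- An element fixing `d` and `a`, outside `Q d`, moves every other neighbour. -/
theorem smul_ne {d a b : V} {g : G} (ha : Γ.Adj d a) (hb : Γ.Adj d b) (hab : a ≠ b)
    (hd : g ∈ stabilizer G d) (hga : g ∈ stabilizer G a) (hg : g ∉ Q d) : g • b ≠ b :=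
  fun e => hg (h.mem_Q ha hb hab hd hga e)

omit h in
theorem smul_ne' {a b : V} {g : G} (hab : a ≠ b) (hga : g ∈ stabilizer G a) : g • b ≠ a :=
  fun e => hab ((smul_left_cancel_iff g).1 ((mem_stabilizer_iff.1 hga).trans e.symm))

theorem swap {d a b c : V} {g : G} (ha : Γ.Adj d a) (hb : Γ.Adj d b) (hc : Γ.Adj d c) (hab : a ≠ b)
    (hac : a ≠ c) (hbc : b ≠ c) (hd : g ∈ stabilizer G d) (hga : g ∈ stabilizer G a)
    (hg : g ∉ Q d) : g • b = c := by
  rcases h.three ha hb hc (h.adj_self hd hb) hab hac hbc with e | e | e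
  · exact absurd e (smul_ne' hab hga)
  · exact absurd e (h.smul_ne ha hb hab hd hga hg)
  · exact e

theorem edge_trans {a b a' b' : V} (hab : Γ.Adj a b) (hab' : Γ.Adj a' b') (hA : A a ↔ A a') :
    ∃ g : G, g • a = a' ∧ g • b = b' := by
  obtain ⟨g, rfl⟩ := h.orbit hA
  obtain ⟨k, hk, rfl⟩ := h.trans (h.adj_smul g hab) hab'
  exact ⟨k * g, by rw [mul_smul, mem_stabilizer_iff.1 hk], mul_smul _ _ _⟩

theorem nA {a b : V} (hab : Γ.Adj a b) (ha : A a) : ¬ A b := (h.A_adj hab).1 ha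

theorem yA {a b : V} (hab : Γ.Adj a b) (ha : ¬ A a) : A b := (h.A_adj hab.symm).2 ha

/-- The trivial case: subgroups of `Q b` normal in the edge stabiliser are normal in `G b`. -/
theorem card_le_of_small {a b : V} (hab : Γ.Adj a b)
    (hb : ∀ N ≤ Q b, stabilizer G a ⊓ stabilizer G b ≤ normalizer (N : Set G) →
      stabilizer G b ≤ normalizer (N : Set G)) :
    Nat.card (stabilizer G a ⊓ stabilizer G b : Subgroup G) ≤ 16 := by
  obtain ⟨c, d, hc, hd, h1, h2, h3⟩ := h.exists_two hab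
  have hn := (h.eqQ.inf (h.eqI h.eqQ)).norm a
  have h0 : Q a ⊓ I Γ Q a = ⊥ :=
    h.faithful hab (inf_le_left.trans (le_inf (h.Q_le_self a) (h.Q_le hab))) hn
      (hb _ (fun x hx => mem_I.1 hx.2 b hab) (inf_le_left.trans hn))
  have := h.fin a
  have := h.finQ a
  have : Finite (stabilizer G a ⊓ stabilizer G b : Subgroup G) := finite_of_le inf_le_left
  have st : ∀ {x} (H : Subgroup G), Γ.Adj a x → H ≤ Q a →
      Nat.card H ≤ 2 * Nat.card (H ⊓ Q x : Subgroup G) := fun H hx hH =>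
    have := finite_of_le hH
    card_le_two_mul _ fun u hu w hw h4 h5 => h.mul_mem hx.symm (h.Q_le hx (hH hu))
      (h.Q_le_self a (hH hu)) (h.Q_le hx (hH hw)) (h.Q_le_self a (hH hw)) h4 h5
  have e1 := card_le_two_mul (H := stabilizer G a ⊓ stabilizer G b) (Q a)
    fun u hu w hw h4 h5 => h.mul_mem hab hu.1 hu.2 hw.1 hw.2 h4 h5
  have e2 := st (stabilizer G a ⊓ stabilizer G b ⊓ Q a) hab inf_le_right
  have e3 := st (stabilizer G a ⊓ stabilizer G b ⊓ Q a ⊓ Q b) hc (inf_le_left.trans inf_le_right)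
  have e4 := st (stabilizer G a ⊓ stabilizer G b ⊓ Q a ⊓ Q b ⊓ Q c) hd
    (inf_le_left.trans (inf_le_left.trans inf_le_right))
  have e5 : stabilizer G a ⊓ stabilizer G b ⊓ Q a ⊓ Q b ⊓ Q c ⊓ Q d = ⊥ := by
    rw [eq_bot_iff, ← h0]
    intro x hx
    refine ⟨hx.1.1.1.2, mem_I.2 fun y hy => ?_⟩
    rcases h.three hab hc hd hy h1 h2 h3 with rfl | rfl | rfl
    exacts [hx.1.1.2, hx.1.2, hx.2]
  rw [e5, card_bot] at e4
  omega

/-! ### Distances -/

theorem nr_trans {n m : ℤ} {x y z : V} (h1 : Nr Γ n x y) (h2 : Nr Γ m y z) : Nr Γ (n + m) x z := by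
  have := h.conn.dist_triangle (u := x) (v := y) (w := z)
  unfold Nr at *
  omega

theorem nr_step {n : ℤ} {x y z : V} (h1 : Γ.Adj x y) (h2 : Nr Γ n y z) : Nr Γ (1 + n) x z :=
  h.nr_trans (Nr.of_adj h1) h2

theorem nr_step' {n : ℤ} {x y z : V} (h2 : Nr Γ n x y) (h1 : Γ.Adj y z) : Nr Γ (n + 1) x z :=
  h.nr_trans h2 (Nr.of_adj h1)

theorem nr_arc {v : ℤ → V} (hv : Arc Γ v) (i j : ℤ) : Nr Γ |i - j| (v i) (v j) := by
  have key : ∀ (n : ℕ) (i : ℤ), Nr Γ n (v i) (v (i + n)) := fun n i => by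
    induction n with
    | zero => simpa using Nr.refl Γ (v i)
    | succ n ih => exact_mod_cast h.nr_step' ih (hv.adj _ (i + (n + 1 : ℕ)) (by push_cast; omega))
  rcases le_total i j with e | e
  · obtain ⟨n, rfl⟩ := Int.le.dest e
    simpa using key n i
  · obtain ⟨n, rfl⟩ := Int.le.dest e
    simpa using (key n j).symm

theorem exists_pred {u v : V} (huv : u ≠ v) : ∃ w, Γ.Adj v w ∧ Γ.dist u w < Γ.dist u v := by
  obtain ⟨w, hw, hd⟩ := exists_adj_dist_lt h.conn huv.symm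
  exact ⟨w, hw, by rwa [Γ.dist_comm, Γ.dist_comm (u := u)]⟩

/-! ### Arcs -/

theorem arc_smul {v : ℤ → V} (hv : Arc Γ v) (g : G) : Arc Γ (fun i => g • v i) := fun i =>
  ⟨h.adj_smul g (hv i).1, fun e => (hv i).2 ((smul_left_cancel_iff g).1 e)⟩

theorem exists_ray {a b : V} (hab : Γ.Adj a b) : ∃ u : ℕ → V, u 0 = a ∧ u 1 = b ∧
    ∀ n, Γ.Adj (u n) (u (n + 1)) ∧ u n ≠ u (n + 2) := by
  let E := {p : V × V // Γ.Adj p.1 p.2}
  have hs : ∀ p : E, ∃ q : E, q.1.1 = p.1.2 ∧ q.1.2 ≠ p.1.1 := fun p => by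
    obtain ⟨c, h1, h2⟩ := h.exists_other p.2.symm
    exact ⟨⟨(p.1.2, c), h1⟩, rfl, h2⟩
  choose f hf using hs
  let s : ℕ → E := fun n => f^[n] ⟨(a, b), hab⟩
  have e : ∀ n, s (n + 1) = f (s n) := fun n => Function.iterate_succ_apply' _ _ _
  refine ⟨fun n => (s n).1.1, rfl, (hf _).1, fun n => ⟨?_, ?_⟩⟩
  · show Γ.Adj (s n).1.1 (s (n + 1)).1.1
    rw [e, (hf _).1]; exact (s n).2
  · show (s n).1.1 ≠ (s (n + 1 + 1)).1.1
    rw [e, (hf _).1, e]; exact (hf _).2.symm

theorem exists_arc {a b : V} (hab : Γ.Adj a b) : ∃ v, Arc Γ v ∧ v 0 = a ∧ v 1 = b := by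
  obtain ⟨u, h0, h1, hu⟩ := h.exists_ray hab
  obtain ⟨w, k0, k1, hw⟩ := h.exists_ray hab.symm
  have e1 : ∀ i : ℤ, 0 ≤ i → (if 0 ≤ i then u i.toNat else w (1 - i).toNat) = u i.toNat :=
    fun i hi => if_pos hi
  have e2 : ∀ i : ℤ, i ≤ 1 → (if 0 ≤ i then u i.toNat else w (1 - i).toNat) = w (1 - i).toNat :=
    fun i hi => by
      split_ifs with h2
      · obtain rfl | rfl : i = 0 ∨ i = 1 := by omega
        · exact h0.trans k1.symm
        · exact h1.trans k0.symm
      · rfl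
  refine ⟨fun i => if 0 ≤ i then u i.toNat else w (1 - i).toNat, fun i => ⟨?_, ?_⟩, h0, h1⟩
  · by_cases hi : 0 ≤ i
    · beta_reduce
      rw [e1 i hi, e1 (i + 1) (by omega), show (i + 1).toNat = i.toNat + 1 by omega]
      exact (hu _).1
    · beta_reduce
      rw [e2 i (by omega), e2 (i + 1) (by omega),
        show (1 - i).toNat = (1 - (i + 1)).toNat + 1 by omega]
      exact (hw _).1.symm
  · by_cases hi : 0 ≤ i
    · beta_reduce
      rw [e1 i hi, e1 (i + 2) (by omega), show (i + 2).toNat = i.toNat + 2 by omega]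
      exact (hu _).2
    · beta_reduce
      rw [e2 i (by omega), e2 (i + 2) (by omega),
        show (1 - i).toNat = (1 - (i + 2)).toNat + 2 by omega]
      exact (hw _).2.symm

/-- Change an arc before position `j`. -/
theorem arc_back {v : ℤ → V} (hv : Arc Γ v) (j : ℤ) {x : V} (hx : Γ.Adj (v j) x)
    (hne : x ≠ v (j + 1)) : ∃ w, Arc Γ w ∧ (∀ i, j ≤ i → w i = v i) ∧ w (j - 1) = x := by
  obtain ⟨u, hu, h0, h1⟩ := h.exists_arc hx
  refine ⟨_, hv.glue (hu.rev j) j (by simpa using h0) (by simpa [h1] using hne),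
    fun i hi => if_pos hi, ?_⟩
  simp [h1]

/-- Change an arc after position `j`. -/
theorem arc_fwd {v : ℤ → V} (hv : Arc Γ v) (j : ℤ) {x : V} (hx : Γ.Adj (v j) x)
    (hne : x ≠ v (j - 1)) : ∃ w, Arc Γ w ∧ (∀ i, i ≤ j → w i = v i) ∧ w (j + 1) = x := by
  obtain ⟨w, hw, h1, h2⟩ := h.arc_back (hv.rev 0) (-j) (x := x) (by simpa using hx)
    (by rw [show (0 : ℤ) - (-j + 1) = j - 1 by omega]; exact hne)
  refine ⟨_, hw.rev 0, fun i hi => ?_, ?_⟩
  · show w (0 - i) = v i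
    rw [h1 _ (by omega)]; simp
  · show w (0 - (j + 1)) = x
    rw [← h2]; congr 1; omega

theorem exists_arc_dist (n : ℕ) {x y : V} (hd : Γ.dist x y = n) :
    ∃ v, Arc Γ v ∧ v 0 = x ∧ v n = y ∧ ∀ i : ℕ, i ≤ n → Γ.dist x (v i) = i := by
  induction n generalizing y with
  | zero =>
    obtain rfl := h.conn.dist_eq_zero_iff.1 hd
    obtain ⟨b, hb⟩ := h.exists_adj x
    obtain ⟨v, hv, h0, -⟩ := h.exists_arc hb
    exact ⟨v, hv, h0, h0, fun i hi => by obtain rfl : i = 0 := by omega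
                                         simp [h0]⟩
  | succ n ih =>
    have hne : x ≠ y := by rintro rfl; simp at hd
    obtain ⟨w, hw, hlt⟩ := h.exists_pred hne
    have h1 : Γ.dist x w = n := by
      have := h.nr_step' (show Nr Γ (Γ.dist x w) x w from le_rfl) hw.symm
      unfold Nr at this
      omega
    rcases Nat.eq_zero_or_pos n with rfl | hn
    · obtain rfl := h.conn.dist_eq_zero_iff.1 h1
      obtain ⟨v, hv, h0, h2⟩ := h.exists_arc hw.symm
      refine ⟨v, hv, h0, h2, fun i hi => ?_⟩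
      obtain rfl | rfl : i = 0 ∨ i = 1 := by omega
      · simp [h0]
      · simpa [h2] using hd
    · obtain ⟨v, hv, h0, h2, h3⟩ := ih h1
      obtain ⟨u, hu, k1, k2⟩ := h.arc_fwd hv n (x := y) (h2 ▸ hw.symm) fun e => by
        have := h3 (n - 1) (by omega)
        rw [show ((n - 1 : ℕ) : ℤ) = n - 1 by omega, ← e] at this
        omega
      refine ⟨u, hu, (k1 0 (by omega)).trans h0, by exact_mod_cast k2, fun i hi => ?_⟩
      rcases hi.eq_or_lt with rfl | hi
      · rw [show ((n + 1 : ℕ) : ℤ) = n + 1 by omega, k2, hd]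
      · rw [k1 i (by omega), h3 i (by omega)]

theorem ty_iff {v : ℤ → V} (hv : Arc Γ v) (i j : ℤ) : (A (v i) ↔ A (v j)) ↔ (j - i) % 2 = 0 := by
  have key : ∀ (n : ℕ) (i : ℤ), (A (v i) ↔ A (v (i + n))) ↔ (n : ℤ) % 2 = 0 := fun n i => by
    induction n with
    | zero => simp
    | succ n ih =>
      have h1 := h.A_adj (hv.adj (i + n) (i + (n + 1 : ℕ)) (by push_cast; omega))
      have h2 : ((n + 1 : ℕ) : ℤ) % 2 = 0 ↔ ¬ (n : ℤ) % 2 = 0 := by omega
      rw [h2, ← ih, h1]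
      tauto
  rcases le_total i j with e | e
  · obtain ⟨n, rfl⟩ := Int.le.dest e
    rw [key]; omega
  · obtain ⟨n, rfl⟩ := Int.le.dest e
    rw [iff_comm (a := A (v (j + n))), key]; omega

theorem ty {v : ℤ → V} (hv : Arc Γ v) {i : ℤ} (hi : A (v i)) (j : ℤ)
    (e : (j - i) % 2 = 0 := by omega) : A (v j) := ((h.ty_iff hv i j).2 e).1 hi

theorem nty {v : ℤ → V} (hv : Arc Γ v) {i : ℤ} (hi : A (v i)) (j : ℤ)
    (e : (j - i) % 2 = 1 := by omega) : ¬ A (v j) := fun hj =>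
  absurd ((h.ty_iff hv i j).1 (iff_of_true hi hj)) (by omega)

theorem arc_trans (n : ℕ) (hfree : ∀ v, Arc Γ v → ∀ m : ℤ, 1 ≤ m → m < n → Free Q v 0 m)
    {v w : ℤ → V} (hv : Arc Γ v) (hw : Arc Γ w) (hA : A (v 0) ↔ A (w 0)) :
    ∃ g : G, ∀ k : ℤ, 0 ≤ k → k ≤ n → g • v k = w k := by
  induction n with
  | zero =>
    obtain ⟨g, hg⟩ := h.orbit hA
    exact ⟨g, fun k h1 h2 => by obtain rfl : k = 0 := by omega
                                exact hg⟩
  | succ n ih =>
    rcases Nat.eq_zero_or_pos n with rfl | hn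
    · obtain ⟨g, h0, h1⟩ := h.edge_trans (hv.adj 0 1) (hw.adj 0 1) hA
      refine ⟨g, fun k h2 h3 => ?_⟩
      obtain rfl | rfl : k = 0 ∨ k = 1 := by omega
      exacts [h0, h1]
    · obtain ⟨g, hg⟩ := ih fun v hv m h1 h2 => hfree v hv m h1 (by omega)
      by_cases e : g • v (n + 1) = w (n + 1)
      · refine ⟨g, fun k h1 h2 => ?_⟩
        rcases h2.eq_or_lt with rfl | h2
        · exact_mod_cast e
        · exact hg k h1 (by omega)
      · obtain ⟨t, ht, ht'⟩ := hfree w hw n (by omega) (by omega)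
        have h3 : Γ.Adj (w n) (g • v (n + 1)) := by
          rw [← hg n (by omega) le_rfl]; exact h.adj_smul g (hv.adj _ _)
        have h4 : w (n - 1) ≠ g • v (n + 1) := by
          rw [← hg (n - 1) (by omega) (by omega)]
          exact fun e => hv.ne _ _ (by omega) ((smul_left_cancel_iff g).1 e)
        have h5 := h.swap (hw.adj n (n - 1)) h3 (hw.adj n (n + 1)) h4 (hw.ne _ _) e
          (ht n (by omega) le_rfl) (ht (n - 1) (by omega) (by omega)) ht'
        refine ⟨t * g, fun k h1 h2 => ?_⟩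
        rw [mul_smul]
        rcases h2.eq_or_lt with rfl | h2
        · exact_mod_cast h5
        · rw [hg k h1 (by omega)]; exact ht k h1 (by omega)

omit h in
theorem free_shift {v : ℤ → V} {i j c : ℤ} (hf : Free Q (fun k => v (k + c)) i j) :
    Free Q v (i + c) (j + c) := by
  obtain ⟨g, h1, h2⟩ := hf
  refine ⟨g, fun k h3 h4 => ?_, h2⟩
  have := h1 (k - c) (by omega) (by omega)
  simpa using this

theorem all_free {n : ℤ} {v w : ℤ → V} {i j : ℤ} (hv : Arc Γ v) (hw : Arc Γ w) (hi : A (v i))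
    (hj : ¬ A (w j)) (f1 : Free Q v (i - n) i) (f2 : Free Q w (j - n) j) {u : ℤ → V} (hu : Arc Γ u)
    (k l : ℤ) (e : k + 1 ≤ l ∧ l ≤ k + n := by omega) : Free Q u k l := by
  have key : ∀ m : ℕ, (m : ℤ) ≤ n → ∀ u, Arc Γ u → Free Q u 0 m := fun m => by
    induction m using Nat.strong_induction_on with
    | _ m ih =>
      intro hm u hu
      have tr := fun {v w : ℤ → V} => h.arc_trans m (v := v) (w := w) fun v hv m' h1 h2 => by
        have := ih m'.toNat (by omega) (by omega) v hv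
        rwa [show ((m'.toNat : ℕ) : ℤ) = m' by omega] at this
      have aux : ∀ (v : ℤ → V) (i : ℤ), Arc Γ v → (A (v i) ↔ A (u m)) → Free Q v (i - n) i →
          Free Q u 0 m := fun v i hv hA ⟨t, h1, h2⟩ => by
        obtain ⟨g, hg⟩ := tr (hv.shift (i - m)) hu (by
          have e1 := h.ty_iff hv (0 + (i - m)) i
          have e2 := h.ty_iff hu 0 m
          rw [show i - (0 + (i - m)) = m - 0 by omega, ← e2] at e1
          tauto)
        refine ⟨g * t * g⁻¹, fun k h3 h4 => ?_, fun hq => h2 ?_⟩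
        · exact eqS.of_eq (hg k h3 h4) (h1 _ (by omega) (by omega))
        · have := h.eqQ.back (hg m (by omega) le_rfl) hq
          rwa [show (m : ℤ) + (i - m) = i by omega] at this
      by_cases hA : A (u m)
      · exact aux v i hv (iff_of_true hi hA) f1
      · exact aux w j hw (iff_of_false hj hA) f2
  have := free_shift (key (l - k).toNat (by omega) _ (hu.shift k))
  rwa [zero_add, show (((l - k).toNat : ℕ) : ℤ) + k = l by omega] at this

end Cub

end CfsgLib.Gam
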