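import Mathlib
import Cfsg.Agent.Lib.Gam.Base

/-!
Goldschmidt amalgams with one central `Ω₁(Z(T))`: basic facts and even critical distance.
-/

set_option autoImplicit false
set_option linter.unusedSectionVars false

namespace CfsgLib.Gam

open Subgroup MulAction CfsgLib.LAE
open scoped commutatorElement

/-- The amalgam setting: `Z b` is central in `G b` for the vertices `b` outside `A`. -/
structure Am {G V : Type*} [Group G] [MulAction G V] (Γ : SimpleGraph V) (A : V → Prop)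
    (Q Z : V → Subgroup G) : Prop extends Cub Γ A Q where
  not_Q_le : ∀ {a b : V}, Γ.Adj a b → ¬ Q a ≤ Q b
  eqZ : Eqv Z
  Z_le : ∀ {a b : V}, A a → Γ.Adj a b → Z b ≤ Z a
  Z_cent : ∀ {b : V} {z g : G}, ¬ A b → z ∈ Z b → g ∈ stabilizer G b → Commute g z
  Z_le_Q : ∀ {a : V}, A a → Z a ≤ Q a
  Z_comm : ∀ {a : V} {z q : G}, A a → z ∈ Z a → q ∈ Q a → Commute q z
  Z_sq : ∀ {a : V} {z : G}, A a → z ∈ Z a → z * z = 1
  omega : ∀ {a b : V} {x : G}, A a → Γ.Adj a b → x ∈ stabilizer G a → x ∈ stabilizer G b →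
    x * x = 1 → (∀ g ∈ stabilizer G a, g ∈ stabilizer G b → Commute g x) → x ∈ Z b
  omegaQ : ∀ {a : V} {x : G}, A a → x ∈ Q a → x * x = 1 → (∀ q ∈ Q a, Commute q x) → x ∈ Z a
  meet : ∀ {a b : V} {N : Subgroup G}, A a → Γ.Adj a b → N ≤ stabilizer G a ⊓ stabilizer G b →
    stabilizer G a ⊓ stabilizer G b ≤ normalizer (N : Set G) → N ≠ ⊥ → ∃ z ∈ N, z ∈ Z b ∧ z ≠ 1
  one : ∀ {a b : V}, A a → Γ.Adj a b → Z a ≤ Q b

/-- `Z b` has index two in `Z a`. -/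
def K1 {G V : Type*} [Group G] (Γ : SimpleGraph V) (A : V → Prop) (Z : V → Subgroup G) : Prop :=
  ∀ a b, A a → Γ.Adj a b → ∀ x ∈ Z a, ∀ y ∈ Z a, x ∉ Z b → y ∉ Z b → x * y ∈ Z b

/-- `b` is a lower bound for the critical distance. -/
def CD {G V : Type*} [Group G] (Γ : SimpleGraph V) (A : V → Prop) (Q Z : V → Subgroup G)
    (b : ℤ) : Prop :=
  ∀ x y, A x → Nr Γ (b - 1) x y → Z x ≤ Q y

namespace Am

variable {G V : Type*} [Group G] [MulAction G V] {Γ : SimpleGraph V} {A : V → Prop}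
  {Q Z : V → Subgroup G} (h : Am Γ A Q Z)
include h

theorem exists_T {d a : V} (ha : Γ.Adj d a) : ∃ t ∈ Q a, t ∉ Q d := by
  by_contra hc
  push Not at hc
  exact h.not_Q_le ha.symm hc

theorem le_of_two {d x y : V} {K : Subgroup G} (hx : Γ.Adj d x) (hy : Γ.Adj d y) (hxy : x ≠ y)
    (h1 : stabilizer G d ⊓ stabilizer G x ≤ K) (h2 : stabilizer G d ⊓ stabilizer G y ≤ K) :
    stabilizer G d ≤ K := by
  obtain ⟨t, ht, ht'⟩ := h.exists_T hy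
  have htd := h.Q_le hy.symm ht
  have hty := h.Q_le_self y ht
  exact h.le_of_max hx htd (fun htx => ht' (h.mem_Q hx hy hxy htd htx hty)) h1 (h2 ⟨htd, hty⟩)

theorem central {d a : V} (ha : Γ.Adj d a) {x t : G} (hQ : ∀ q ∈ Q d, Commute q x)
    (h1 : t ∈ stabilizer G d) (h2 : t ∈ stabilizer G a) (h3 : t ∉ Q d) (ht : Commute t x) {g : G}
    (h4 : g ∈ stabilizer G d) (h5 : g ∈ stabilizer G a) : Commute g x := by
  by_cases hg : g ∈ Q d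
  · exact hQ g hg
  · have := (hQ _ (h.mul_mem ha h4 h5 h1 h2 hg h3)).mul_left ht.inv_left
    rwa [mul_inv_cancel_right] at this

theorem Z_le_S {a : V} (ha : A a) : Z a ≤ stabilizer G a := (h.Z_le_Q ha).trans (h.Q_le_self a)

theorem inv_eq {a : V} {z : G} (ha : A a) (hz : z ∈ Z a) : z⁻¹ = z :=
  inv_eq_of_mul_eq_one_right (h.Z_sq ha hz)

theorem fix {a b : V} (ha : A a) (hab : Γ.Adj a b) {x t : G} (hx : x ∈ Z a)
    (h1 : t ∈ stabilizer G a) (h2 : t ∈ stabilizer G b) (h3 : t ∉ Q a) (ht : Commute t x) :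
    x ∈ Z b :=
  h.omega ha hab (h.Z_le_S ha hx) (h.Q_le hab (h.Z_le_Q ha hx)) (h.Z_sq ha hx) fun _ h4 h5 =>
    h.central hab (fun _ hq => h.Z_comm ha hx hq) h1 h2 h3 ht h4 h5

theorem mem_Q_of_comm {a b : V} (ha : A a) (hab : Γ.Adj a b) {x t : G} (hx : x ∈ Z a)
    (hx' : x ∉ Z b) (h1 : t ∈ stabilizer G a) (h2 : t ∈ stabilizer G b) (ht : Commute t x) :
    t ∈ Q a := by
  by_contra h3
  exact hx' (h.fix ha hab hx h1 h2 h3 ht)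

theorem comm {a b : V} (ha : A a) (hab : Γ.Adj a b) {x t : G} (hx : x ∈ Z a)
    (h1 : t ∈ stabilizer G a) (h2 : t ∈ stabilizer G b) : ⁅t, x⁆ ∈ Z b := by
  by_cases h3 : t ∈ Q a
  · rw [(h.Z_comm ha hx h3).commutator_eq]; exact one_mem _
  have hx' := h.eqZ.self h1 hx
  refine h.fix ha hab (mul_mem hx' (inv_mem hx)) h1 h2 h3 (comm_of_cj ?_)
  have e1 := cj_eq (h.Z_comm ha hx (h.mul_mem hab h1 h2 h1 h2 h3 h3))
  have e2 := (h.Z_comm ha hx (h.Z_le_Q ha hx')).eq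
  rw [commutatorElement_def, h.inv_eq ha hx]
  calc _ = (t * t * x * (t * t)⁻¹) * (t * x * t⁻¹) := by group
    _ = _ := by rw [e1, e2]

theorem comm' {a b : V} (ha : A a) (hab : Γ.Adj a b) {x t : G} (hx : x ∈ Z a)
    (h1 : t ∈ stabilizer G a) (h2 : t ∈ stabilizer G b) : ⁅x, t⁆ ∈ Z b := by
  rw [← commutatorElement_inv]; exact inv_mem (h.comm ha hab hx h1 h2)

theorem Z_inf {a b c : V} (ha : A a) (hb : Γ.Adj a b) (hc : Γ.Adj a c) (hbc : b ≠ c) {z : G}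
    (h1 : z ∈ Z b) (h2 : z ∈ Z c) : z = 1 := by
  have key : ∀ d : V, stabilizer G d ≤ centralizer {z} →
      stabilizer G d ≤ normalizer (zpowers z : Set G) := fun d hd =>
    hd.trans (by rw [← centralizer_closure, ← zpowers_eq_closure]; exact centralizer_le_normalizer _)
  have k2 : ∀ d, Γ.Adj a d → z ∈ Z d → stabilizer G d ≤ centralizer {z} := fun d hd hz g hg =>
    mem_centralizer_singleton_iff.2 (h.Z_cent (h.nA hd ha) hz hg).eq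
  have hz := h.Z_le_Q ha (h.Z_le ha hb h1)
  exact zpowers_eq_bot.1 (h.faithful hb (by rw [zpowers_le]; exact ⟨h.Q_le_self a hz, h.Q_le hb hz⟩)
    (key a (h.le_of_two hb hc hbc (inf_le_right.trans (k2 b hb h1))
      (inf_le_right.trans (k2 c hc h2)))) (key b (k2 b hb h1)))

theorem exists_Z {a b : V} (ha : A a) (hb : Γ.Adj a b) : ∃ z ∈ Z b, z ≠ 1 := by
  obtain ⟨t, ht, ht'⟩ := h.exists_T hb
  obtain ⟨z, -, h1⟩ := h.meet ha hb le_rfl le_normalizer fun h0 => ht' (by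
    have : t ∈ stabilizer G a ⊓ stabilizer G b := ⟨h.Q_le hb.symm ht, h.Q_le_self b ht⟩
    rw [h0, mem_bot] at this
    exact this ▸ one_mem _)
  exact ⟨z, h1⟩

theorem exists_Z' {a b : V} (ha : A a) (hb : Γ.Adj a b) : ∃ x ∈ Z a, x ∉ Z b := by
  obtain ⟨c, hc, hcb⟩ := h.exists_other hb
  obtain ⟨z, h1, h2⟩ := h.exists_Z ha hc
  exact ⟨z, h.Z_le ha hc h1, fun h3 => h2 (h.Z_inf ha hc hb hcb h1 h3)⟩

theorem cent_Z {a : V} (ha : A a) {g : G} (hg : g ∈ stabilizer G a)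
    (hc : ∀ z ∈ Z a, Commute g z) : g ∈ Q a := by
  obtain ⟨b, hb⟩ := h.exists_adj a
  by_cases hgb : g ∈ stabilizer G b
  · obtain ⟨x, h1, h2⟩ := h.exists_Z' ha hb
    exact h.mem_Q_of_comm ha hb h1 h2 hg hgb (hc x h1)
  · obtain ⟨z, h1, h2⟩ := h.exists_Z ha hb
    refine absurd (h.Z_inf ha (h.adj_self hg hb) hb hgb ?_ h1) h2
    rw [← cj_eq (hc z (h.Z_le ha hb h1))]
    exact h.eqZ g z b h1

theorem Z_ne {m l l' : V} (hm : ¬ A m) (hl : Γ.Adj m l) (hl' : Γ.Adj m l') (hne : l ≠ l') :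
    ¬ Z l ≤ Z l' := fun hle => by
  obtain ⟨c, hc, h1, h2⟩ := h.exists_third hl l'
  obtain ⟨t, ht, ht'⟩ := h.exists_T hc
  have h3 := h.Q_le hc.symm ht
  have h4 := h.Q_le_self c ht
  have e : Z l = Z l' := le_antisymm hle fun x hx =>
    h.eqZ.back (h.swap hc hl hl' h1 h2 hne h3 h4 ht')
      (hle (h.eqZ.of_eq (h.swap hc hl' hl h2 h1 hne.symm h3 h4 ht') hx))
  have hA := h.yA hl hm
  obtain ⟨x, h5, h6⟩ := h.exists_Z' hA hl.symm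
  rw [h.faithful hl (le_inf ((h.one hA hl.symm).trans (h.Q_le_self m)) (h.Z_le_S hA))
    (h.le_of_two hl hl' hne (inf_le_right.trans (h.eqZ.norm l))
      (inf_le_right.trans (e ▸ h.eqZ.norm l'))) (h.eqZ.norm l), mem_bot] at h5
  exact h6 (h5 ▸ one_mem _)

theorem k1_of_edge {a b : V} (ha : A a) (hab : Γ.Adj a b)
    (hk : ∀ x ∈ Z a, ∀ y ∈ Z a, x ∉ Z b → y ∉ Z b → x * y ∈ Z b) : K1 Γ A Z := by
  intro c d hc hcd x hx y hy h1 h2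
  obtain ⟨g, e1, e2⟩ := h.edge_trans hcd hab (iff_of_true hc ha)
  refine h.eqZ.back e2 ?_
  have := hk _ (h.eqZ.of_eq e1 hx) _ (h.eqZ.of_eq e1 hy) (fun h3 => h1 (h.eqZ.back e2 h3))
    (fun h3 => h2 (h.eqZ.back e2 h3))
  simpa [mul_assoc] using this

theorem k1_eq (k : K1 Γ A Z) {b : V} (hb : ¬ A b) {x y : G} (hx : x ∈ Z b) (hy : y ∈ Z b)
    (h1 : x ≠ 1) (h2 : y ≠ 1) : x = y := by
  obtain ⟨a, hba⟩ := h.exists_adj b
  have ha := h.yA hba hb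
  obtain ⟨c, hc, hcb⟩ := h.exists_other hba.symm
  have h3 := h.Z_inf ha hc hba.symm hcb (k a c ha hc x (h.Z_le ha hba.symm hx) y
    (h.Z_le ha hba.symm hy) (fun h3 => h1 (h.Z_inf ha hc hba.symm hcb h3 hx))
    (fun h3 => h2 (h.Z_inf ha hc hba.symm hcb h3 hy))) (mul_mem hx hy)
  rw [← h.inv_eq ha (h.Z_le ha hba.symm hx), inv_eq_of_mul_eq_one_right h3]

theorem k1_third (k : K1 Γ A Z) {a b c d : V} (ha : A a) (hb : Γ.Adj a b) (hc : Γ.Adj a c)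
    (hd : Γ.Adj a d) (hbc : b ≠ c) (hbd : b ≠ d) (hcd : c ≠ d) {x : G} (hx : x ∈ Z a)
    (h1 : x ∉ Z b) (h2 : x ∉ Z c) : x ∈ Z d := by
  obtain ⟨z, h3, h4⟩ := h.exists_Z ha hd
  have hz := h.Z_le ha hd h3
  have h5 := h.Z_inf ha hb hc hbc
    (k a b ha hb x hx z hz h1 fun h5 => h4 (h.Z_inf ha hb hd hbd h5 h3))
    (k a c ha hc x hx z hz h2 fun h5 => h4 (h.Z_inf ha hc hd hcd h5 h3))
  rw [eq_inv_of_mul_eq_one_left h5]
  exact inv_mem h3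

omit h in
theorem k1_le (k : K1 Γ A Z) {a b : V} (ha : A a) (hb : Γ.Adj a b) {K : Subgroup G} (h1 : Z b ≤ K)
    {x : G} (hx : x ∈ Z a) (hx' : x ∉ Z b) (hK : x ∈ K) : Z a ≤ K := fun y hy => by
  by_cases h2 : y ∈ Z b
  · exact h1 h2
  · exact (K.mul_mem_cancel_left hK).1 (h1 (k a b ha hb x hx y hy hx' h2))

theorem k1_le' (k : K1 Γ A Z) {a b c : V} (ha : A a) (hb : Γ.Adj a b) (hc : Γ.Adj a c) (hbc : b ≠ c)
    {K : Subgroup G} (h1 : Z b ≤ K) (h2 : Z c ≤ K) : Z a ≤ K := by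
  obtain ⟨z, h3, h4⟩ := h.exists_Z ha hc
  exact k1_le k ha hb h1 (h.Z_le ha hc h3) (fun h5 => h4 (h.Z_inf ha hb hc hbc h5 h3)) (h2 h3)

theorem k1_le_of_mem (k : K1 Γ A Z) {b : V} (hb : ¬ A b) {K : Subgroup G} {x : G} (hx : x ∈ Z b)
    (h1 : x ≠ 1) (hK : x ∈ K) : Z b ≤ K := fun y hy => by
  by_cases h2 : y = 1
  · exact h2 ▸ one_mem _
  · exact h.k1_eq k hb hx hy h1 h2 ▸ hK

theorem not_free {v : ℤ → V} (hv : Arc Γ v) {i j : ℤ} (hi : ¬ A (v i)) (hj : A (v j))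
    (hf : Free Q v i j) {r : G} (h1 : r ∈ Z (v i)) (h2 : r ∈ Z (v (j + 1)))
    (e : i + 1 ≤ j := by omega) : r = 1 := by
  obtain ⟨g, h3, h4⟩ := hf
  have h5 := h3 j (by omega) le_rfl
  refine h.Z_inf hj (h.adj_self h5 (hv.adj j (j + 1))) (hv.adj j (j + 1))
    (h.smul_ne (hv.adj j (j - 1)) (hv.adj j (j + 1)) (hv.ne _ _) h5
      (h3 _ (by omega) (by omega)) h4) ?_ h2
  rw [← cj_eq (h.Z_cent hi h1 (h3 i le_rfl (by omega)))]
  exact h.eqZ _ _ _ h2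

/-- A subgroup generated by a `G d`-invariant family is not normalised by a swap. -/
theorem not_norm {d a : V} (ha : Γ.Adj d a) (P : V → Prop)
    (hP : ∀ g ∈ stabilizer G a, ∀ x, P x → P (g • x))
    (hS : ∀ x, P x → Z x ≤ stabilizer G d ⊓ stabilizer G a) {y : G} (hy : y ∈ stabilizer G d)
    (hy' : y ∉ stabilizer G a) (hyy : y * y = 1)
    (hn : ∀ x, P x → ∀ u ∈ Z x, y * u * y⁻¹ ∈ ⨆ x, ⨆ (_ : P x), Z x) {x : V} (hx : P x) :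
    Z x = ⊥ := by
  set W : Subgroup G := ⨆ x, ⨆ (_ : P x), Z x with hW
  have key : ∀ g : G, (∀ x, P x → ∀ u ∈ Z x, g * u * g⁻¹ ∈ W) → ∀ u ∈ W, g * u * g⁻¹ ∈ W :=
    fun g hg => conjS_le_iff_forall.1 (by
      rw [hW, conjS_iSup]
      refine iSup_le fun x => ?_
      rw [conjS_iSup]
      exact iSup_le fun hx => conjS_le_iff_forall.2 (hg x hx))
  have h1 : stabilizer G a ≤ normalizer (W : Set G) :=
    LocStr.le_normalizer_of_forall fun g hg => key g fun x hx u hu =>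
      le_iSup₂ (f := fun x (_ : P x) => Z x) _ (hP g hg x hx) (h.eqZ g u x hu)
  have h2 : y ∈ normalizer (W : Set G) := by
    rw [mem_normalizer_iff]
    refine fun n => ⟨key y hn n, fun h3 => ?_⟩
    have := key y hn _ h3
    rwa [show y * (y * n * y⁻¹) * y⁻¹ = (y * y) * n * (y * y)⁻¹ by group, hyy, one_mul, inv_one,
      mul_one] at this
  have h3 := h.faithful ha (N := W) (iSup₂_le hS)
    (h.le_of_max ha hy hy' (inf_le_right.trans h1) h2) h1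
  exact eq_bot_iff.2 (h3 ▸ le_iSup₂ (f := fun x (_ : P x) => Z x) x hx)

theorem Z_ne_bot {a : V} (ha : A a) : Z a ≠ ⊥ := fun h0 => by
  obtain ⟨b, hb⟩ := h.exists_adj a
  obtain ⟨x, h1, h2⟩ := h.exists_Z' ha hb
  rw [h0, mem_bot] at h1
  exact h2 (h1 ▸ one_mem _)

theorem two_trans {a m c a' m' c' : V} (h1 : Γ.Adj m a) (h2 : Γ.Adj m c) (h3 : a ≠ c)
    (h4 : Γ.Adj m' a') (h5 : Γ.Adj m' c') (h6 : a' ≠ c') (hA : A m ↔ A m') :
    ∃ g : G, g • m = m' ∧ g • a = a' ∧ g • c = c' := by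
  obtain ⟨g, rfl, rfl⟩ := h.edge_trans h1 h4 hA
  by_cases e : g • c = c'
  · exact ⟨g, rfl, rfl, e⟩
  obtain ⟨t, ht, ht'⟩ := h.exists_T h4
  have h7 := h.Q_le h4.symm ht
  have h8 := h.Q_le_self _ ht
  refine ⟨t * g, by rw [mul_smul]; exact h7, by rw [mul_smul]; exact h8, ?_⟩
  rw [mul_smul]
  exact h.swap h4 (h.adj_smul g h2) h5 (fun e => h3 ((smul_left_cancel_iff g).1 e)) h6 e h7 h8 ht'

theorem card_step {d a : V} (ha : Γ.Adj d a) (H : Subgroup G) (h1 : H ≤ stabilizer G d)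
    (h2 : H ≤ stabilizer G a) : Nat.card H ≤ 2 * Nat.card (H ⊓ Q d : Subgroup G) :=
  have := h.fin d
  have := finite_of_le h1
  card_le_two_mul _ fun _ hu _ hw h4 h5 => h.mul_mem ha (h1 hu) (h2 hu) (h1 hw) (h2 hw) h4 h5

section CD
variable {b : ℤ} (hb : CD Γ A Q Z b)
include hb

omit h in
theorem zq {x y : V} (hx : A x) {n : ℤ} (hn : Nr Γ n x y) (e : n < b := by omega) : Z x ≤ Q y :=
  hb x y hx (le_trans hn (by omega))

theorem zs {x y : V} (hx : A x) {n : ℤ} (hn : Nr Γ n x y) (e : n ≤ b := by omega) :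
    Z x ≤ stabilizer G y := by
  by_cases hxy : x = y
  · exact hxy ▸ h.Z_le_S hx
  · obtain ⟨w, hw, hd⟩ := h.exists_pred hxy
    refine (hb x w hx ?_).trans (h.Q_le hw.symm)
    unfold Nr at *
    omega

theorem aq {v : ℤ → V} (hv : Arc Γ v) {i : ℤ} (hi : A (v i)) (j : ℤ) {x : G} (hx : x ∈ Z (v i))
    (e : i - j < b ∧ j - i < b := by omega) : x ∈ Q (v j) :=
  zq hb hi (h.nr_arc hv i j) (abs_lt.2 (by omega)) hx

theorem as {v : ℤ → V} (hv : Arc Γ v) {i : ℤ} (hi : A (v i)) (j : ℤ) {x : G} (hx : x ∈ Z (v i))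
    (e : i - j ≤ b ∧ j - i ≤ b := by omega) : x ∈ stabilizer G (v j) :=
  h.zs hb hi (h.nr_arc hv i j) (abs_le.2 (by omega)) hx

theorem nq {v : ℤ → V} (hv : Arc Γ v) {i : ℤ} {l : V} (hl : A l) (hi : Γ.Adj (v i) l) (j : ℤ)
    {x : G} (hx : x ∈ Z l) (e : i - j + 1 < b ∧ j - i + 1 < b := by omega) : x ∈ Q (v j) :=
  have : |i - j| < b - 1 := abs_lt.2 (by omega)
  zq hb hl (h.nr_step hi.symm (h.nr_arc hv i j)) (by omega) hx

theorem ns {v : ℤ → V} (hv : Arc Γ v) {i : ℤ} {l : V} (hl : A l) (hi : Γ.Adj (v i) l) (j : ℤ)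
    {x : G} (hx : x ∈ Z l) (e : i - j + 1 ≤ b ∧ j - i + 1 ≤ b := by omega) :
    x ∈ stabilizer G (v j) :=
  have : |i - j| ≤ b - 1 := abs_le.2 (by omega)
  h.zs hb hl (h.nr_step hi.symm (h.nr_arc hv i j)) (by omega) hx

section even
variable (hev : b % 2 = 0) (h2 : 2 ≤ b)
include hev h2

theorem ev_symm {v : ℤ → V} (hv : Arc Γ v) (h0 : A (v 0)) (hc : ¬ Z (v 0) ≤ Q (v b)) :
    ∃ y ∈ Z (v b), y ∉ Q (v 0) := by
  by_contra hh
  push Not at hh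
  exact hc fun x hx => h.cent_Z (h.ty hv h0 b) (h.as hb hv h0 b hx) fun z hz =>
    (h.Z_comm h0 hx (hh z hz)).symm

theorem ev_k1 {v : ℤ → V} (hv : Arc Γ v) (h0 : A (v 0)) (hc : ¬ Z (v 0) ≤ Q (v b)) : K1 Γ A Z := by
  obtain ⟨y, hy, hy'⟩ := h.ev_symm hb hev h2 hv h0 hc
  have hA := h.ty hv h0 b
  have key : ∀ x ∈ Z (v 0), x ∈ Q (v b) → x ∈ Z (v 1) := fun x hx hq =>
    h.fix h0 (hv.adj 0 1) hx (h.as hb hv hA 0 hy) (h.as hb hv hA 1 hy) hy' (h.Z_comm hA hy hq).symm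
  exact h.k1_of_edge h0 (hv.adj 0 1) fun x hx z hz h3 h4 => key _ (mul_mem hx hz)
    (h.mul_mem (hv.adj b (b - 1)) (h.as hb hv h0 _ hx) (h.as hb hv h0 _ hx) (h.as hb hv h0 _ hz)
      (h.as hb hv h0 _ hz) (fun h5 => h3 (key x hx h5)) (fun h5 => h4 (key z hz h5)))

theorem ev_R {v : ℤ → V} (hv : Arc Γ v) (h0 : A (v 0)) (hc : ¬ Z (v 0) ≤ Q (v b)) :
    ∃ r, r ≠ 1 ∧ r ∈ Z (v 1) ∧ r ∈ Z (v (b - 1)) := by
  obtain ⟨y, hy, hy'⟩ := h.ev_symm hb hev h2 hv h0 hc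
  obtain ⟨x, hx, hx'⟩ := SetLike.not_le_iff_exists.1 hc
  have hA := h.ty hv h0 b
  refine ⟨⁅y, x⁆, fun e => hx' ?_, h.comm h0 (hv.adj 0 1) hx (h.as hb hv hA 0 hy) (h.as hb hv hA 1 hy),
    h.comm' hA (hv.adj b (b - 1)) hy (h.as hb hv h0 _ hx) (h.as hb hv h0 _ hx)⟩
  exact h.aq hb hv (h.ty hv h0 2) b (h.Z_le (h.ty hv h0 2) (hv.adj 2 1)
    (h.fix h0 (hv.adj 0 1) hx (h.as hb hv hA 0 hy) (h.as hb hv hA 1 hy) hy'
      (commutatorElement_eq_one_iff_commute.1 e)))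

theorem ev_false (h4 : 4 ≤ b) {v : ℤ → V} (hv : Arc Γ v) (h0 : A (v 0))
    (hc : ¬ Z (v 0) ≤ Q (v b)) : False := by
  have k := h.ev_k1 hb hev h2 hv h0 hc
  obtain ⟨y, hy, hy'⟩ := h.ev_symm hb hev h2 hv h0 hc
  obtain ⟨x, hx, hx'⟩ := SetLike.not_le_iff_exists.1 hc
  obtain ⟨r, hr, hr1, hr2⟩ := h.ev_R hb hev h2 hv h0 hc
  have hA := h.ty hv h0 b
  have hm := h.nty hv h0 (-1)
  have s1 : ∀ l, Γ.Adj (v (-1)) l → Z l ≤ Q (v (b - 2)) := fun l hl => by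
    by_cases e : l = v 0
    · exact e ▸ fun _ hx => h.aq hb hv h0 _ hx
    by_contra hcr
    obtain ⟨w, hw, e1, e2⟩ := h.arc_back hv (-1) hl e
    obtain ⟨s, hs, hs1, hs2⟩ := h.ev_R hb hev h2 (hw.shift (-2))
      (show A (w (-1 - 1)) from e2 ▸ h.yA hl hm)
      (show ¬ Z (w (-1 - 1)) ≤ Q (w (b + -2)) by rw [e2, e1 _ (by omega)]; exact hcr)
    rw [e1 _ (by omega)] at hs1 hs2
    refine hc (h.k1_le' k h0 (hv.adj 0 1) (hv.adj 0 (-1)) (hv.ne _ _)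
      ((h.Z_le (h.ty hv h0 2) (hv.adj 2 1)).trans fun _ hx => h.aq hb hv (h.ty hv h0 2) b hx)
      (h.k1_le_of_mem k hm hs1 hs ?_))
    exact h.aq hb hv (h.ty hv h0 (b - 2)) b (h.Z_le (h.ty hv h0 (b - 2)) (hv.adj _ _) hs2)
  have s2 : ∃ l, Γ.Adj (v (-1)) l ∧ ¬ Z l ≤ Q (v (b - 1)) := by
    by_contra hh
    push Not at hh
    refine h.Z_ne_bot h0 (h.not_norm (hv.adj 0 (-1)) (fun l => Γ.Adj (v (-1)) l)
      (fun g hg l hl => h.adj_self hg hl)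
      (fun l hl _ hx => ⟨h.ns hb hv (h.yA hl hm) hl 0 hx, h.ns hb hv (h.yA hl hm) hl (-1) hx⟩)
      (h.as hb hv hA 0 hy) (fun hs => hy' (h.mem_Q (hv.adj 0 1) (hv.adj 0 (-1)) (hv.ne _ _)
        (h.as hb hv hA 0 hy) (h.as hb hv hA 1 hy) hs)) (h.Z_sq hA hy) (fun l hl u hu => ?_)
      (hv.adj (-1) 0))
    have h5 := h.comm' hA (hv.adj b (b - 1)) hy (h.Q_le (hv.adj (b - 1) b) (hh l hl hu))
      (h.Q_le_self _ (hh l hl hu))
    have h6 := h.Z_le h0 (hv.adj 0 1) (h.k1_le_of_mem k (h.nty hv h0 (b - 1)) hr2 hr hr1 h5)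
    rw [show y * u * y⁻¹ = ⁅y, u⁆ * u by group]
    exact mul_mem (le_iSup₂ (f := fun x (_ : Γ.Adj (v (-1)) x) => Z x) _ (hv.adj (-1) 0) h6)
      (le_iSup₂ (f := fun x (_ : Γ.Adj (v (-1)) x) => Z x) _ hl hu)
  obtain ⟨l, hl, hl'⟩ := s2
  obtain ⟨u, hu, hu'⟩ := SetLike.not_le_iff_exists.1 hl'
  have f := h.all_free (n := b - 3) hv hv hA (h.nty hv h0 (b - 1))
    ⟨x, fun j h5 h6 => h.as hb hv h0 j hx, hx'⟩
    ⟨u, fun j h5 h6 => by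
      rcases h6.eq_or_lt with rfl | h6
      · exact h.Q_le (hv.adj (b - 2) _) (s1 l hl hu)
      · exact h.ns hb hv (h.yA hl hm) hl j hu, hu'⟩ hv 1 (b - 2)
  exact hr (h.not_free hv (h.nty hv h0 1) (h.ty hv h0 (b - 2)) f hr1
    (by rwa [show b - 2 + 1 = b - 1 by omega]))

end even

end CD

theorem bound_two (hb : CD Γ A Q Z 2) {v : ℤ → V} (hv : Arc Γ v) (h0 : A (v 0))
    (hc : ¬ Z (v 0) ≤ Q (v 2)) {a m : V} (ha : A a) (hm : Γ.Adj a m) :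
    Nat.card (stabilizer G a ⊓ stabilizer G m : Subgroup G) ≤ 128 := by
  have cr : ∀ {m l}, Γ.Adj a m → Γ.Adj m l → l ≠ a →
      ∃ x ∈ Z l, x ∈ stabilizer G a ∧ x ∈ stabilizer G m ∧ x ∉ Q a := fun {m l} h1 h2 h3 => by
    obtain ⟨g, -, e1, e2⟩ := h.two_trans (hv.adj 1 0) (hv.adj 1 2) (hv.ne _ _) h2 h1.symm h3
      (iff_of_false (h.nty hv h0 1) (h.nA h1 ha))
    obtain ⟨x, hx, hx'⟩ := SetLike.not_le_iff_exists.1 hc
    have hl := h.yA h2 (h.nA h1 ha)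
    have h4 := h.eqZ.of_eq e1 hx
    exact ⟨_, h4, h.zs hb hl (h.nr_step h2.symm (Nr.of_adj h1.symm)) (by omega) h4,
      h.Q_le h2.symm (h.Z_le_Q hl h4), fun h5 => hx' (h.eqQ.back e2 h5)⟩
  obtain ⟨m2, m3, hm2, hm3, n1, n2, n3⟩ := h.exists_two hm
  obtain ⟨a2, a3, ha2, ha3, n4, n5, n6⟩ := h.exists_two hm.symm
  obtain ⟨c2, c3, hc2, hc3, n7, n8, n9⟩ := h.exists_two hm2.symm
  have hN := (h.eqI (h.eqI h.eqQ)).norm a
  have h1 : I Γ (I Γ Q) a = ⊥ := by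
    by_contra hne
    obtain ⟨n, h2, h3, h4⟩ := h.meet ha hm (fun x hx => ⟨h.Q_le_self a (mem_I.1 (mem_I.1 hx m hm) a hm.symm),
      h.Q_le hm (mem_I.1 (mem_I.1 hx m hm) a hm.symm)⟩) (inf_le_left.trans hN) hne
    obtain ⟨y, h5, h6, h7, h8⟩ := cr hm2 hc2 n7.symm
    exact h4 (h.Z_inf ha hm hm2 n1 h3 (h.fix ha hm2 (h.Z_le ha hm h3) h6 h7 h8
      (h.Z_comm (h.yA hc2 (h.nA hm2 ha)) h5 (mem_I.1 (mem_I.1 h2 m2 hm2) c2 hc2)).symm))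
  set T := stabilizer G a ⊓ stabilizer G m
  have e1 := h.card_step hm T inf_le_left inf_le_right
  have e2 := h.card_step hm.symm (T ⊓ Q a) (fun _ hx => hx.1.2) (fun _ hx => hx.1.1)
  have e3 := h.card_step ha2.symm (T ⊓ Q a ⊓ Q m) (fun _ hx => h.Q_le ha2 hx.2) (fun _ hx => hx.1.1.2)
  have e4 := h.card_step ha3.symm (T ⊓ Q a ⊓ Q m ⊓ Q a2) (fun _ hx => h.Q_le ha3 hx.1.2)
    (fun _ hx => hx.1.1.1.2)
  have e5 := h.card_step hm2.symm (T ⊓ Q a ⊓ Q m ⊓ Q a2 ⊓ Q a3) (fun _ hx => h.Q_le hm2 hx.1.1.1.2)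
    (fun _ hx => hx.1.1.1.1.1)
  have e6 := h.card_step hc2.symm (T ⊓ Q a ⊓ Q m ⊓ Q a2 ⊓ Q a3 ⊓ Q m2)
    (fun _ hx => h.Q_le hc2 hx.2) (fun _ hx => h.Q_le_self _ hx.2)
  have e7 := h.card_step hc3.symm (T ⊓ Q a ⊓ Q m ⊓ Q a2 ⊓ Q a3 ⊓ Q m2 ⊓ Q c2)
    (fun _ hx => h.Q_le hc3 hx.1.2) (fun _ hx => h.Q_le_self _ hx.1.2)
  have e8 : T ⊓ Q a ⊓ Q m ⊓ Q a2 ⊓ Q a3 ⊓ Q m2 ⊓ Q c2 ⊓ Q c3 = ⊥ := by
    rw [eq_bot_iff, ← h1]
    rintro e ⟨⟨⟨⟨⟨⟨⟨-, k1⟩, -⟩, k2⟩, k3⟩, -⟩, k4⟩, k5⟩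
    have f1 : e ∈ I Γ Q m := mem_I.2 fun y hy => by
      rcases h.three hm.symm ha2 ha3 hy n4 n5 n6 with rfl | rfl | rfl
      exacts [k1, k2, k3]
    have f2 : e ∈ I Γ Q m2 := mem_I.2 fun y hy => by
      rcases h.three hm2.symm hc2 hc3 hy n7 n8 n9 with rfl | rfl | rfl
      exacts [k1, k4, k5]
    refine mem_I.2 fun y hy => ?_
    rcases h.three hm hm2 hm3 hy n1 n2 n3 with rfl | rfl | rfl
    · exact f1
    · exact f2
    · obtain ⟨x, h5, h6, h7, h8⟩ := cr hm ha2 n4.symm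
      rw [← cj_eq (h.Z_comm (h.yA ha2 (h.nA hm ha)) h5 k2).symm]
      exact (h.eqI h.eqQ).of_eq (h.swap hm hm2 hm3 n1 n2 n3 h6 h7 h8) f2
  rw [e8, card_bot] at e7
  omega

end Am

end CfsgLib.Gam
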