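import Mathlib
import Cfsg.Agent.Lib.Gam.Even

/-!
Goldschmidt amalgams: odd critical distance, first part.
-/

set_option autoImplicit false
set_option linter.unusedSectionVars false

namespace CfsgLib.Gam

open Subgroup MulAction CfsgLib.LAE
open scoped commutatorElement

theorem comm_of_conj {G : Type*} [Group G] {g q r : G} (hg : Commute g r)
    (h : Commute (g⁻¹ * q * g) r) : Commute q r := by
  have := (hg.mul_left h).mul_left hg.inv_left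
  rwa [show g * (g⁻¹ * q * g) * g⁻¹ = q by group] at this

theorem comm_of_mul {G : Type*} [Group G] {g q r : G} (hg : Commute g r)
    (h : Commute (q * g) r) : Commute q r := by
  have := h.mul_left hg.inv_left
  rwa [mul_inv_cancel_right] at this

theorem Eqv.back' {G V : Type*} [Group G] [MulAction G V] {F : V → Subgroup G} (hF : Eqv F) {g x : G}
    {a b : V} (hg : g • a = b) (hx : x ∈ F b) : g⁻¹ * x * g ∈ F a :=
  hF.back hg (by rwa [show g * (g⁻¹ * x * g) * g⁻¹ = x by group])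

/-- Some arc of length `b - 1` ending in `A` is free. -/
def AF {G V : Type*} [Group G] [MulAction G V] (Γ : SimpleGraph V) (A : V → Prop)
    (Q : V → Subgroup G) (b : ℤ) : Prop :=
  ∃ w j, Arc Γ w ∧ A (w j) ∧ Free Q w (j - (b - 1)) j

namespace Am

variable {G V : Type*} [Group G] [MulAction G V] {Γ : SimpleGraph V} {A : V → Prop}
  {Q Z : V → Subgroup G} (h : Am Γ A Q Z) {b : ℤ} (hb : CD Γ A Q Z b) (h3 : 3 ≤ b)
include h hb h3

theorem zz {m l l' : V} (hm : ¬ A m) (hl : Γ.Adj m l) (hl' : Γ.Adj m l') {x : G} (hx : x ∈ Z l) :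
    x ∈ Q l' :=
  zq hb (h.yA hl hm) (h.nr_step hl.symm (Nr.of_adj hl')) (by omega) hx

theorem zc {m l l' : V} (hm : ¬ A m) (hl : Γ.Adj m l) (hl' : Γ.Adj m l') {x y : G} (hx : x ∈ Z l)
    (hy : y ∈ Z l') : Commute x y :=
  h.Z_comm (h.yA hl' hm) hy (h.zz hb h3 hm hl hl' hx)

theorem noN {m l l' : V} (hm : ¬ A m) (hl : Γ.Adj m l) (hl' : Γ.Adj m l') (hne : l ≠ l') :
    ∃ q ∈ Q m, q ∈ Q l ∧ q ∉ Q l' := by
  by_contra hN
  push Not at hN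
  have hN' : ∀ q ∈ Q m, q ∈ Q l' → q ∈ Q l := fun q h1 h2 => by
    obtain ⟨g, e1, e2, e3⟩ := h.two_trans hl' hl hne.symm hl hl' hne Iff.rfl
    exact h.eqQ.back e3 (hN _ (h.eqQ.of_eq e1 h1) (h.eqQ.of_eq e2 h2))
  obtain ⟨c, hc, n1, n2⟩ := h.exists_third hl l'
  have hN'' : ∀ q ∈ Q m, q ∈ Q c → q ∈ Q l := fun q h1 h2 => by
    obtain ⟨g, e1, e2, e3⟩ := h.two_trans hc hl n1 hl hl' hne Iff.rfl
    exact h.eqQ.back e3 (hN _ (h.eqQ.of_eq e1 h1) (h.eqQ.of_eq e2 h2))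
  obtain ⟨y, hy, hy'⟩ := h.exists_T hc
  have y1 := h.Q_le hc.symm hy
  have y2 := h.Q_le_self c hy
  have e := h.swap hc hl hl' n1 n2 hne y1 y2 hy'
  have hA := h.yA hl hm
  refine h.Z_ne hm hl' hl hne.symm fun u hu => ?_
  obtain ⟨x, hx, rfl⟩ : ∃ x ∈ Z l, u = y * x * y⁻¹ := ⟨_, h.eqZ.back' e hu, by group⟩
  have hxx := (h.zc hb h3 hm hl hl' hx hu).eq
  have hxm := h.Q_le_self m (h.one hA hl.symm hx)
  have k1 : Commute y (x * (y * x * y⁻¹)) := comm_of_cj (by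
    have := cj_eq (h.Z_comm hA hx (hN'' _ (h.mul_mem hc y1 y2 y1 y2 hy' hy') (mul_mem hy hy)))
    calc _ = (y * x * y⁻¹) * (y * y * x * (y * y)⁻¹) := by group
      _ = _ := by rw [this, hxx])
  have k2 : ∀ q ∈ Q m, Commute q (x * (y * x * y⁻¹)) := fun q hq => comm_of_cj (by
    have q1 : y⁻¹ * q * y ∈ Q m := h.eqQ.back' y1 hq
    have q2 : q⁻¹ * (y⁻¹ * q * y) ∈ Q l := by
      by_cases h4 : q ∈ Q l
      · exact mul_mem (inv_mem h4) (h.eqQ.back' e (hN q hq h4))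
      · refine h.mul_mem hl.symm (inv_mem (h.Q_le hl hq)) (inv_mem (h.Q_le_self m hq))
          (h.Q_le hl q1) (h.Q_le_self m q1) (fun h5 => h4 (inv_mem_iff.1 h5)) fun h5 => h4 ?_
        have := h.eqQ.of_eq e h5
        rw [show y * (y⁻¹ * q * y) * y⁻¹ = q by group] at this
        exact hN' q hq this
    have q3 := cj_eq (h.Z_comm hA hx q2)
    have hc := h.comm hA hl.symm hx (h.Q_le hl hq) (h.Q_le_self m hq)
    have q4 := cj_eq (h.Z_cent hm hc y1)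
    have q5 := (h.Z_cent hm hc hxm).eq
    have q6 := h.Z_sq hA (h.Z_le hA hl.symm hc)
    calc _ = ⁅q, x⁆ * x * (y * (q * (q⁻¹ * (y⁻¹ * q * y) * x * (q⁻¹ * (y⁻¹ * q * y))⁻¹) * q⁻¹) *
          y⁻¹) := by group
      _ = ⁅q, x⁆ * (x * (y * ⁅q, x⁆ * y⁻¹)) * (y * x * y⁻¹) := by rw [q3]; group
      _ = _ := by rw [q4, q5, ← mul_assoc ⁅q, x⁆ ⁅q, x⁆, q6, one_mul])
  have hAc := h.yA hc hm
  have k3 := h.omega hAc hc.symm
    (h.Q_le_self c (mul_mem (h.zz hb h3 hm hl hc hx) (h.zz hb h3 hm hl' hc hu)))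
    (mul_mem hxm (h.Q_le_self m (h.one (h.yA hl' hm) hl'.symm hu)))
    (by
      calc _ = x * ((y * x * y⁻¹) * x) * (y * x * y⁻¹) := by group
        _ = (x * x) * ((y * x * y⁻¹) * (y * x * y⁻¹)) := by rw [← hxx]; group
        _ = 1 := by rw [h.Z_sq hA hx, h.Z_sq (h.yA hl' hm) hu, one_mul])
    fun g h4 h5 => h.central hc k2 y1 y2 hy' k1 h5 h4
  exact ((Z l).mul_mem_cancel_left hx).1 (h.Z_le hA hl.symm k3)

theorem zinf {m l l' : V} (hm : ¬ A m) (hl : Γ.Adj m l) (hl' : Γ.Adj m l') (hne : l ≠ l') {d : G}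
    (h1 : d ∈ Z l) (h2 : d ∈ Z l') : d ∈ Z m := by
  obtain ⟨q, q1, q2, q3⟩ := h.noN hb h3 hm hl hl' hne
  exact h.fix (h.yA hl' hm) hl'.symm h2 (h.Q_le hl' q1) (h.Q_le_self m q1) q3
    (h.Z_comm (h.yA hl hm) h1 q2)

omit h hb h3 in
theorem not_af (haf : ¬ AF Γ A Q b) {w : ℤ → V} (hw : Arc Γ w) (j : ℤ) (hj : A (w j)) {g : G}
    (hg : ∀ k, j - (b - 1) ≤ k → k ≤ j → g ∈ stabilizer G (w k)) : g ∈ Q (w j) := by
  by_contra hq
  exact haf ⟨w, j, hw, hj, g, hg, hq⟩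

variable (hodd : b % 2 = 1) {v : ℤ → V} (hv : Arc Γ v) (h0 : A (v 0)) (hc : ¬ Z (v 0) ≤ Q (v b))
include hodd hv h0 hc

theorem af_free (haf : AF Γ A Q b) {u : ℤ → V} (hu : Arc Γ u) (k l : ℤ)
    (e : k + 1 ≤ l ∧ l ≤ k + (b - 1) := by omega) : Free Q u k l := by
  obtain ⟨w, j, hw, hj, hf⟩ := haf
  obtain ⟨x, hx, hx'⟩ := SetLike.not_le_iff_exists.1 hc
  exact h.all_free hw hv hj (h.nty hv h0 b) hf ⟨x, fun j h5 h6 => h.as hb hv h0 j hx, hx'⟩ hu k l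

theorem af_crit (haf : AF Γ A Q b) {u : ℤ → V} (hu : Arc Γ u) (hA : A (u 0)) :
    ¬ Z (u 0) ≤ Q (u b) := fun hle => by
  obtain ⟨g, hg⟩ := h.arc_trans b.toNat
    (fun w hw m h1 h2 => h.af_free hb h3 hodd hv h0 hc haf hw 0 m) hv hu (iff_of_true h0 hA)
  exact hc fun x hx => h.eqQ.back (hg b (by omega) (by omega))
    (hle (h.eqZ.of_eq (hg 0 le_rfl (by omega)) hx))

theorem osym {l : V} (hl : Γ.Adj (v b) l) (hne : l ≠ v (b - 1)) : ¬ Z l ≤ Q (v 1) := fun hle => by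
  obtain ⟨x, hx, hx'⟩ := SetLike.not_le_iff_exists.1 hc
  have hm := h.nty hv h0 b
  have hA := h.yA hl hm
  have x1 := h.as hb hv h0 b hx
  by_cases h1 : Z l ≤ Q (v 0)
  · refine h.Z_ne hm hl (h.adj_self x1 hl)
      (h.smul_ne (hv.adj b (b - 1)) hl hne.symm x1 (h.as hb hv h0 _ hx) hx').symm fun u hu => ?_
    rw [← cj_eq (h.Z_comm h0 hx (h1 hu)).symm]
    exact h.eqZ _ _ _ hu
  · obtain ⟨y, hy, hy'⟩ := SetLike.not_le_iff_exists.1 h1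
    obtain ⟨w, hw, e1, e2⟩ := h.arc_fwd hv b hl hne
    refine h.af_crit hb h3 hodd hv h0 hc ⟨_, 0, hv.rev 0, h0, y, fun k h4 h5 => ?_, hy'⟩
      (hw.rev (b + 1)) (by simpa [e2] using hA) (by simpa [e2, e1 1 (by omega)] using hle)
    rcases h5.eq_or_lt with rfl | h5
    · exact h.Q_le (hv.adj 1 _) (hle hy)
    · exact h.ns hb hv hA hl _ hy

theorem orev : ¬ Z (v (b + 1)) ≤ Q (v 1) :=
  h.osym hb h3 hodd hv h0 hc (hv.adj _ _) (hv.ne _ _)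

theorem ocrit {l : V} (hl : Γ.Adj (v 1) l) (hne : l ≠ v 2) : ¬ Z l ≤ Q (v b) := by
  have := h.osym hb h3 hodd (hv.rev (b + 1)) (h.ty hv h0 _)
    (by simpa using h.orev hb h3 hodd hv h0 hc) (l := l) (by simpa using hl)
    (by rwa [show b + 1 - (b - 1) = 2 by omega])
  simpa using this

theorem ok1 : K1 Γ A Z := by
  obtain ⟨y, hy, hy'⟩ := SetLike.not_le_iff_exists.1 (h.orev hb h3 hodd hv h0 hc)
  have hA := h.ty hv h0 (b + 1)
  have hm := h.nty hv h0 1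
  by_cases hcl : ∀ u ∈ Z (v 0), u ∈ Q (v b) → u ∈ Q (v (b + 1))
  · have y1 := h.as hb hv hA 1 hy
    have key : ∀ u ∈ Z (v 0), u ∈ Q (v b) → u ∈ Z (v 1) := fun u hu hq => by
      refine h.zinf hb h3 hm (h.adj_self y1 (hv.adj 1 0)) (hv.adj 1 0)
        (h.smul_ne (hv.adj 1 2) (hv.adj 1 0) (hv.ne _ _) y1 (h.as hb hv hA 2 hy) hy') ?_ hu
      rw [← cj_eq (h.Z_comm hA hy (hcl u hu hq)).symm]
      exact h.eqZ _ _ _ hu
    exact h.k1_of_edge h0 (hv.adj 0 1) fun x hx z hz h4 h5 => key _ (mul_mem hx hz)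
      (h.mul_mem (hv.adj b (b - 1)) (h.as hb hv h0 _ hx) (h.as hb hv h0 _ hx) (h.as hb hv h0 _ hz)
        (h.as hb hv h0 _ hz) (fun h6 => h4 (key x hx h6)) (fun h6 => h5 (key z hz h6)))
  · push Not at hcl
    obtain ⟨u, hu, u1, u2⟩ := hcl
    have u3 := h.Q_le (hv.adj b (b + 1)) u1
    have haf : AF Γ A Q b := ⟨v, b + 1, hv, hA, u, fun k h4 h5 => by
      rcases h5.eq_or_lt with rfl | h5
      · exact u3
      · exact h.as hb hv h0 k hu, u2⟩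
    have key : ∀ s ∈ Z (v (b + 1)), s ∈ Q (v 1) → s ∈ Z (v b) := fun s hs hq =>
      h.fix hA (hv.adj _ b) hs u3 (h.Q_le_self _ u1) u2 (commutatorElement_eq_one_iff_commute.1
        (h.not_free hv hm (h.ty hv h0 (b - 1)) (h.af_free hb h3 hodd hv h0 hc haf hv 1 (b - 1))
          (h.comm' h0 (hv.adj 0 1) hu (h.Q_le (hv.adj 1 0) hq) (h.Q_le_self _ hq))
          (by rw [sub_add_cancel]; exact h.comm hA (hv.adj _ b) hs u3 (h.Q_le_self _ u1))))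
    exact h.k1_of_edge hA (hv.adj _ b) fun x hx z hz h4 h5 => key _ (mul_mem hx hz)
      (h.mul_mem (hv.adj 1 2) (h.as hb hv hA _ hx) (h.as hb hv hA _ hx) (h.as hb hv hA _ hz)
        (h.as hb hv hA _ hz) (fun h6 => h4 (key x hx h6)) (fun h6 => h5 (key z hz h6)))

omit hc in
theorem z1_le {x : G} (hx : x ∈ Z (v 1)) : x ∈ Q (v b) :=
  h.aq hb hv (h.ty hv h0 2) b (h.Z_le (h.ty hv h0 2) (hv.adj 2 1) hx)

theorem notQ {x : G} (hx : x ∈ Z (v 0)) (hx' : x ∉ Z (v 1)) : x ∉ Q (v b) := fun hq =>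
  hc (k1_le (h.ok1 hb h3 hodd hv h0 hc) h0 (hv.adj 0 1) (fun _ => h.z1_le hb h3 hodd hv h0) hx hx' hq)

theorem shift : ∃ w, Arc Γ w ∧ (∀ i, 0 ≤ i → w i = v i) ∧ ¬ Z (w (-2)) ≤ Q (w (b - 2)) := by
  by_contra hh
  push Not at hh
  by_cases haf : AF Γ A Q b
  · exact h.af_crit hb h3 hodd hv h0 hc haf (hv.shift (-2)) (h.ty hv h0 _)
      (by simpa [sub_eq_add_neg] using hh v hv fun _ _ => rfl)
  obtain ⟨x, hx, hx'⟩ := SetLike.not_le_iff_exists.1 hc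
  obtain ⟨y, hy, hy'⟩ := SetLike.not_le_iff_exists.1 (h.orev hb h3 hodd hv h0 hc)
  have hA := h.ty hv h0 (b + 1)
  have y1 := h.as hb hv hA 1 hy
  have hP : ∀ {k l}, Γ.Adj (v 0) k → Γ.Adj k l → A l := fun hk hl => h.yA hl (h.nA hk h0)
  have mem : ∀ {k l} {u : G}, Γ.Adj (v 0) k → Γ.Adj k l → u ∈ Z l →
      u ∈ ⨆ l, ⨆ (_ : ∃ k, Γ.Adj (v 0) k ∧ Γ.Adj k l), Z l := fun hk hl hu =>
    le_iSup₂ (f := fun l (_ : ∃ k, Γ.Adj (v 0) k ∧ Γ.Adj k l) => Z l) _ ⟨_, hk, hl⟩ hu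
  refine h.Z_ne_bot h0 (h.not_norm (hv.adj 1 0) (fun l => ∃ k, Γ.Adj (v 0) k ∧ Γ.Adj k l)
    (fun g hg l ⟨k, hk, hl⟩ => ⟨g • k, h.adj_self hg hk, h.adj_smul g hl⟩)
    (fun l ⟨k, hk, hl⟩ => le_inf
      (h.zs hb (hP hk hl) (h.nr_step hl.symm (h.nr_step hk.symm (Nr.of_adj (hv.adj 0 1)))))
      (h.zs hb (hP hk hl) (h.nr_step hl.symm (Nr.of_adj hk.symm))))
    y1 (h.smul_ne (hv.adj 1 2) (hv.adj 1 0) (hv.ne _ _) y1 (h.as hb hv hA 2 hy) hy') (h.Z_sq hA hy)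
    (fun l ⟨k, hk, hl⟩ u hu => ?_) ⟨_, hv.adj 0 1, hv.adj 1 0⟩)
  by_cases e : Γ.Adj (v 1) l
  · exact mem (hv.adj 0 1) (h.adj_self y1 e) (h.eqZ _ _ _ hu)
  obtain ⟨w1, hw1, e1, e2⟩ := h.arc_back hv 0 hk (by rintro rfl; exact e hl)
  obtain ⟨w, hw, e3, e4⟩ := h.arc_back hw1 (-1) (x := l) (by rw [← e2] at hl; exact hl)
    (by rw [show (-1 : ℤ) + 1 = 0 from rfl, e1 0 le_rfl]; rintro rfl; exact e (hv.adj 1 0))
  have e5 : ∀ i, 0 ≤ i → w i = v i := fun i hi => (e3 i (by omega)).trans (e1 i hi)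
  have u1 := hh w hw e5 (show u ∈ Z (w (-1 - 1)) from e4 ▸ hu)
  rw [e5 _ (by omega)] at u1
  have u2 : ∀ j, 0 ≤ j → j ≤ b - 1 → u ∈ stabilizer G (v j) := fun j h4 h5 => by
    rcases h5.eq_or_lt with rfl | h5
    · exact h.Q_le (hv.adj (b - 2) _) u1
    · rw [← e5 j h4]
      exact h.as hb hw (i := -1 - 1) (e4 ▸ hP hk hl) j (e4 ▸ hu)
  have u3 := h.Q_le (hv.adj (b - 1) b)
    (not_af haf hv (b - 1) (h.ty hv h0 _) fun j h4 h5 => u2 j (by omega) h5)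
  have cl : ∀ g : G, (∀ j, 0 ≤ j → j ≤ b - 1 → g ∈ stabilizer G (v j)) → g ∈ Q (v b) →
      Commute y g := fun g g1 g2 =>
    (h.Z_comm hA hy (not_af haf hv (b + 1) hA fun j h4 h5 => by
      rcases h5.eq_or_lt with rfl | h5
      · exact h.Q_le (hv.adj b _) g2
      · rcases (show j ≤ b by omega).eq_or_lt with rfl | h6
        · exact h.Q_le_self _ g2
        · exact g1 j (by omega) (by omega))).symm
  by_cases hq : u ∈ Q (v b)
  · rw [cj_eq (cl u u2 hq)]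
    exact mem hk hl hu
  · have := cj_eq (cl (u * x) (fun j h4 h5 => mul_mem (u2 j h4 h5) (h.as hb hv h0 j hx))
      (h.mul_mem (hv.adj b (b - 1)) u3 (u2 _ (by omega) le_rfl) (h.as hb hv h0 _ hx)
        (h.as hb hv h0 _ hx) hq hx'))
    rw [show y * u * y⁻¹ = y * (u * x) * y⁻¹ * (y * x⁻¹ * y⁻¹) by group, this]
    exact mul_mem (mul_mem (mem hk hl hu) (mem (hv.adj 0 1) (hv.adj 1 0) hx))
      (mem (hv.adj 0 1) (h.adj_self y1 (hv.adj 1 0)) (h.eqZ _ _ _ (inv_mem hx)))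

theorem fshift : ∃ w, Arc Γ w ∧ (∀ i, i ≤ b + 1 → w i = v i) ∧ ¬ Z (w (b + 3)) ≤ Q (w 3) ∧
    ¬ Z (w 2) ≤ Q (w (b + 2)) := by
  obtain ⟨w, hw, e1, e2⟩ := h.shift hb h3 hodd (hv.rev (b + 1)) (h.ty hv h0 _)
    (by simpa using h.orev hb h3 hodd hv h0 hc)
  have hA : A (w 0) := by rw [e1 0 le_rfl]; exact h.ty hv h0 _
  have e3 := h.orev hb h3 hodd (hw.shift (-2)) (h.ty hw hA _)
    (by simpa [sub_eq_add_neg] using e2)
  refine ⟨_, hw.rev (b + 1), fun i hi => ?_, ?_, ?_⟩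
  · show w (b + 1 - i) = v i
    rw [e1 _ (by omega)]; simp
  · show ¬ Z (w (b + 1 - (b + 3))) ≤ Q (w (b + 1 - 3))
    rwa [show b + 1 - (b + 3) = -2 by omega, show b + 1 - 3 = b - 2 by omega]
  · show ¬ Z (w (b + 1 - 2)) ≤ Q (w (b + 1 - (b + 2)))
    rwa [show b + 1 - (b + 2) = 1 + -2 by omega]

end Am

end CfsgLib.Gam
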