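import Mathlib
import Cfsg.Agent.Lib.Gam.Odd

/-!
Goldschmidt amalgams: an odd critical distance equals three.
-/

set_option autoImplicit false
set_option linter.unusedSectionVars false

namespace CfsgLib.Gam

open Subgroup MulAction CfsgLib.LAE
open scoped commutatorElement

/-- The three index two subgroups of `Q m` are dependent. -/
def Dep {G V : Type*} [Group G] (Γ : SimpleGraph V) (A : V → Prop) (Q : V → Subgroup G) : Prop :=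
  ∀ m l₁ l₂ l₃, ¬ A m → Γ.Adj m l₁ → Γ.Adj m l₂ → Γ.Adj m l₃ → l₁ ≠ l₂ →
    ∀ q ∈ Q m, q ∈ Q l₁ → q ∈ Q l₂ → q ∈ Q l₃

namespace Am

variable {G V : Type*} [Group G] [MulAction G V] {Γ : SimpleGraph V} {A : V → Prop}
  {Q Z : V → Subgroup G} (h : Am Γ A Q Z) {b : ℤ} (hb : CD Γ A Q Z b) (h3 : 3 ≤ b)
include h

theorem mulQ {m l : V} (hl : Γ.Adj m l) {q r : G} (hq : q ∈ Q m) (hr : r ∈ Q m) (h1 : q ∉ Q l)
    (h2 : r ∉ Q l) : q * r ∈ Q l :=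
  h.mul_mem hl.symm (h.Q_le hl hq) (h.Q_le_self m hq) (h.Q_le hl hr) (h.Q_le_self m hr) h1 h2

theorem Zm {m l : V} (hm : ¬ A m) (hl : Γ.Adj m l) {x : G} (hx : x ∈ Z l) : x ∈ stabilizer G m :=
  h.Q_le_self m (h.one (h.yA hl hm) hl.symm hx)

theorem indep (hd : ¬ Dep Γ A Q) {m a : V} (hm : ¬ A m) (ha : Γ.Adj m a) :
    ∃ q ∈ Q m, q ∉ Q a ∧ ∀ c, Γ.Adj m c → c ≠ a → q ∈ Q c := by
  unfold Dep at hd
  push Not at hd
  obtain ⟨n, l1, l2, l3, hn, h1, h2, h3, h4, q, h5, h6, h7, h8⟩ := hd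
  obtain ⟨g, rfl, rfl⟩ := h.edge_trans h3 ha (iff_of_false hn hm)
  have n1 : l3 ≠ l1 := by rintro rfl; exact h8 h6
  have n2 : l3 ≠ l2 := by rintro rfl; exact h8 h7
  refine ⟨_, h.eqQ g q n h5, fun e => h8 (h.eqQ.back rfl e), fun c hc hne => ?_⟩
  have i : ∀ {x y : V}, x ≠ y → g • x ≠ g • y := fun e e' => e ((smul_left_cancel_iff g).1 e')
  rcases h.three ha (h.adj_smul g h1) (h.adj_smul g h2) hc (i n1) (i n2) (i h4) with e | rfl | rfl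
  · exact absurd e hne
  · exact h.eqQ g q _ h6
  · exact h.eqQ g q _ h7

include hb h3

theorem Rc (k : K1 Γ A Z) {m l l' c : V} (hm : ¬ A m) (hl : Γ.Adj m l) (hl' : Γ.Adj m l')
    (hc : Γ.Adj m c) (n1 : c ≠ l) (n2 : c ≠ l') (n3 : l ≠ l') {x x' t : G} (hx : x ∈ Z l)
    (hx' : x' ∈ Z l') (x1 : x ∉ Z m) (x2 : x' ∉ Z m) (t1 : t ∈ stabilizer G m)
    (t2 : t ∈ stabilizer G c) : ⁅t, x * x'⁆ ∈ Z m := by
  have hA := h.yA hl hm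
  have hA' := h.yA hl' hm
  by_cases hq : t ∈ Q m
  · have c1 := h.comm hA hl.symm hx (h.Q_le hl hq) t1
    have c2 := h.comm hA' hl'.symm hx' (h.Q_le hl' hq) t1
    rw [show ⁅t, x * x'⁆ = ⁅t, x⁆ * (x * ⁅t, x'⁆ * x⁻¹) by group,
      cj_eq (h.Z_cent hm c2 (h.Zm hm hl hx))]
    exact mul_mem c1 c2
  · have c1 := k l' m hA' hl'.symm _ (h.eqZ.of_eq (h.swap hc hl hl' n1 n2 n3 t1 t2 hq) hx) _
      (inv_mem hx') (fun e => x1 (h.eqZ.back t1 e)) (fun e => x2 (inv_mem_iff.1 e))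
    have c2 := k l m hA hl.symm _ (h.eqZ.of_eq (h.swap hc hl' hl n2 n1 n3.symm t1 t2 hq) hx') _
      (inv_mem hx) (fun e => x2 (h.eqZ.back t1 e)) (fun e => x1 (inv_mem_iff.1 e))
    rw [(h.zc hb h3 hm hl hl' hx hx').eq, show ⁅t, x' * x⁆ =
      (t * x' * t⁻¹ * x⁻¹) * (x * (t * x * t⁻¹ * x'⁻¹) * x⁻¹) * (x * x' * x⁻¹ * x'⁻¹) by group,
      cj_eq (h.Z_cent hm c1 (h.Zm hm hl hx)), cj_eq (h.zc hb h3 hm hl hl' hx hx'), mul_inv_cancel,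
      mul_one]
    exact mul_mem c2 c1

theorem dep_mem (k : K1 Γ A Z) (hd : Dep Γ A Q) {m l l' c : V} (hm : ¬ A m) (hl : Γ.Adj m l)
    (hl' : Γ.Adj m l') (hc : Γ.Adj m c) (n1 : c ≠ l) (n2 : c ≠ l') (n3 : l ≠ l') {x x' y : G}
    (hx : x ∈ Z l) (hx' : x' ∈ Z l') (x1 : x ∉ Z m) (x2 : x' ∉ Z m) (y1 : y ∈ Q c) (y2 : y ∉ Q m)
    (y3 : Commute y (x * x')) : x * x' ∈ Z c := by
  have hAc := h.yA hc hm
  obtain ⟨w, hw, hw'⟩ := h.exists_Z' hAc hc.symm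
  have c1 : ∀ {l} {x q : G}, Γ.Adj m l → x ∈ Z l → q ∈ Q m → ⁅q, x⁆ ∈ Z m := fun hl hx hq =>
    h.comm (h.yA hl hm) hl.symm hx (h.Q_le hl hq) (h.Q_le_self m hq)
  have c2 : ∀ {l} {x q : G}, Γ.Adj m l → x ∈ Z l → q ∈ Q l → ⁅q, x⁆ = 1 := fun hl hx hq =>
    (h.Z_comm (h.yA hl hm) hx hq).commutator_eq
  have c3 : ∀ {l l'} {x x' q : G}, Γ.Adj m l → Γ.Adj m l' → x ∈ Z l → x' ∈ Z l' → x ∉ Z m →
      x' ∉ Z m → q ∈ Q m → q ∉ Q l → q ∉ Q l' → ⁅q, x⁆ * ⁅q, x'⁆ = 1 :=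
    fun {l l' x x' q} hl hl' hx hx' x1 x2 hq q1 q2 => by
      have e : ∀ {l} {x : G}, Γ.Adj m l → x ∈ Z l → x ∉ Z m → q ∉ Q l → ⁅q, x⁆ ≠ 1 :=
        fun hl hx x1 q1 e => x1 (h.fix (h.yA hl hm) hl.symm hx (h.Q_le hl hq) (h.Q_le_self m hq) q1
          (commutatorElement_eq_one_iff_commute.1 e))
      rw [h.k1_eq k hm (c1 hl hx hq) (c1 hl' hx' hq) (e hl hx x1 q1) (e hl' hx' x2 q2)]
      exact h.Z_sq hAc (h.Z_le hAc hc.symm (c1 hl' hx' hq))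
  have k2 : ∀ q ∈ Q m, Commute q (x * x' * w) := fun q hq => by
    have e : ⁅q, x⁆ * ⁅q, x'⁆ * ⁅q, w⁆ = 1 := by
      by_cases q1 : q ∈ Q l
      · by_cases q2 : q ∈ Q l'
        · rw [c2 hl hx q1, c2 hl' hx' q2, c2 hc hw (hd m l l' c hm hl hl' hc n3 q hq q1 q2)]; simp
        · rw [c2 hl hx q1, one_mul]
          exact c3 hl' hc hx' hw x2 hw' hq q2 fun q3 => q2 (hd m c l l' hm hc hl hl' n1 q hq q3 q1)
      · by_cases q2 : q ∈ Q l'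
        · rw [c2 hl' hx' q2, mul_one]
          exact c3 hl hc hx hw x1 hw' hq q1 fun q3 => q1 (hd m c l' l hm hc hl' hl n2 q hq q3 q2)
        · rw [c3 hl hl' hx hx' x1 x2 hq q1 q2, one_mul]
          refine c2 hc hw ?_
          by_contra q3
          obtain ⟨s, s1, s2, s3⟩ := h.noN hb h3 hm hl hl' n3
          exact q1 (((Q l).mul_mem_cancel_right s2).1 (hd m c l' l hm hc hl' hl n2 _ (mul_mem hq s1)
            (h.mulQ hc hq s1 q3 fun s4 => s3 (hd m c l l' hm hc hl hl' n1 s s1 s4 s2))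
            (h.mulQ hl' hq s1 q2 s3)))
    rw [← commutatorElement_eq_one_iff_commute, ← e, show ⁅q, x * x' * w⁆ =
      ⁅q, x⁆ * (x * ⁅q, x'⁆ * x⁻¹) * ((x * x') * ⁅q, w⁆ * (x * x')⁻¹) by group,
      cj_eq (h.Z_cent hm (c1 hl' hx' hq) (h.Zm hm hl hx)),
      cj_eq (h.Z_cent hm (c1 hc hw hq) (mul_mem (h.Zm hm hl hx) (h.Zm hm hl' hx')))]
  have d1 := h.zc hb h3 hm hl hl' hx hx'
  have d2 := (h.zc hb h3 hm hl hc hx hw).mul_left (h.zc hb h3 hm hl' hc hx' hw)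
  have k3 := h.omega hAc hc.symm (h.Q_le_self c (mul_mem (mul_mem (h.zz hb h3 hm hl hc hx)
    (h.zz hb h3 hm hl' hc hx')) (h.Z_le_Q hAc hw)))
    (mul_mem (mul_mem (h.Zm hm hl hx) (h.Zm hm hl' hx')) (h.Zm hm hc hw))
    (by rw [d2.symm.mul_mul_mul_comm, d1.symm.mul_mul_mul_comm, h.Z_sq (h.yA hl hm) hx,
      h.Z_sq (h.yA hl' hm) hx', h.Z_sq hAc hw]; simp)
    fun g h4 h5 => h.central hc k2 (h.Q_le hc.symm y1) (h.Q_le_self c y1) y2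
      (y3.mul_right (h.Z_comm hAc hw y1)) h5 h4
  exact ((Z c).mul_mem_cancel_right hw).1 (h.Z_le hAc hc.symm k3)

variable (hodd : b % 2 = 1) {v : ℤ → V} (hv : Arc Γ v) (h0 : A (v 0)) (hc : ¬ Z (v 0) ≤ Q (v b))
include hodd hv h0 hc

section xy
variable {x y : G} (hx : x ∈ Z (v 0)) (hx' : x ∉ Q (v b)) (hy : y ∈ Z (v (b + 1)))
  (hy' : y ∉ Q (v 1))
include hx hx' hy hy'

omit hc hy hy' in
theorem x_not : x ∉ Z (v 1) := fun e => hx' (h.z1_le hb h3 hodd hv h0 e)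

omit hc hx' hy hy' hb h3 hodd hv in
theorem r_eq : ⁅x, y⁆ = x * (y * x * y⁻¹) := by
  rw [commutatorElement_def, h.inv_eq h0 hx]; group

omit hc hx hx' in
theorem y_data : Γ.Adj (v 1) (y • v 0) ∧ v 2 ≠ y • v 0 ∧ v 0 ≠ y • v 0 :=
  have hA := h.ty hv h0 (b + 1)
  ⟨h.adj_self (h.as hb hv hA 1 hy) (hv.adj 1 0),
    (Cub.smul_ne' (hv.ne 2 0) (h.as hb hv hA 2 hy)).symm,
    (h.smul_ne (hv.adj 1 2) (hv.adj 1 0) (hv.ne _ _) (h.as hb hv hA 1 hy) (h.as hb hv hA 2 hy)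
      hy').symm⟩

theorem R1 {t : G} (t1 : t ∈ stabilizer G (v 1)) (t2 : t ∈ stabilizer G (v 2)) :
    ⁅t, ⁅x, y⁆⁆ ∈ Z (v 1) := by
  obtain ⟨d1, d2, d3⟩ := h.y_data hb h3 hodd hv h0 hy hy'
  have x1 := h.x_not hb h3 hodd hv h0 hx hx'
  rw [h.r_eq h0 hx]
  exact h.Rc hb h3 (h.ok1 hb h3 hodd hv h0 hc) (h.nty hv h0 1) (hv.adj 1 0) d1 (hv.adj 1 2)
    (hv.ne _ _) d2 d3 hx (h.eqZ _ _ _ hx) x1
    (fun e => x1 (h.eqZ.back (h.as hb hv (h.ty hv h0 (b + 1)) 1 hy) e)) t1 t2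

omit hc in
theorem Rnot : ⁅x, y⁆ ∉ Z (v 1) := fun e => by
  obtain ⟨d1, -, d3⟩ := h.y_data hb h3 hodd hv h0 hy hy'
  rw [h.r_eq h0 hx] at e
  exact h.x_not hb h3 hodd hv h0 hx hx' (h.eqZ.back (h.as hb hv (h.ty hv h0 (b + 1)) 1 hy)
    (h.zinf hb h3 (h.nty hv h0 1) (hv.adj 1 0) d1 d3
      (((Z (v 0)).mul_mem_cancel_left hx).1 (h.Z_le h0 (hv.adj 0 1) e)) (h.eqZ _ _ _ hx)))

omit hc hx' in
theorem Rsq : ⁅x, y⁆ * ⁅x, y⁆ = 1 ∧ Commute y ⁅x, y⁆ := by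
  obtain ⟨d1, -, -⟩ := h.y_data hb h3 hodd hv h0 hy hy'
  have e := h.zc hb h3 (h.nty hv h0 1) (hv.adj 1 0) d1 hx (h.eqZ _ _ _ hx)
  rw [h.r_eq h0 hx]
  refine ⟨by rw [e.symm.mul_mul_mul_comm, h.Z_sq h0 hx,
    h.Z_sq (h.yA d1 (h.nty hv h0 1)) (h.eqZ _ _ _ hx), one_mul], comm_of_cj ?_⟩
  calc _ = (y * x * y⁻¹) * (y * y * x * (y * y)⁻¹) := by group
    _ = _ := by rw [h.Z_sq (h.ty hv h0 (b + 1)) hy, e.eq]; simp

omit hc hx' in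
theorem RQ {j : ℤ} (e : 1 - j + 1 < b ∧ j - 1 + 1 < b := by omega) : ⁅x, y⁆ ∈ Q (v j) := by
  obtain ⟨d1, -, -⟩ := h.y_data hb h3 hodd hv h0 hy hy'
  rw [h.r_eq h0 hx]
  exact mul_mem (h.nq hb hv h0 (hv.adj 1 0) j hx)
    (h.nq hb hv (h.yA d1 (h.nty hv h0 1)) d1 j (h.eqZ _ _ _ hx))

theorem Rmem5 (h5 : 5 ≤ b) (hc' : ¬ Z (v (b + 3)) ≤ Q (v 3)) : ⁅x, y⁆ ∈ Z (v 2) := by
  have k := h.ok1 hb h3 hodd hv h0 hc
  obtain ⟨d1, d2, d3⟩ := h.y_data hb h3 hodd hv h0 hy hy'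
  have x1 := h.x_not hb h3 hodd hv h0 hx hx'
  have hA := h.ty hv h0 (b + 1)
  obtain ⟨rsq, ry⟩ := h.Rsq hb h3 hodd hv h0 hx hy hy'
  by_cases hd : Dep Γ A Q
  · rw [h.r_eq h0 hx] at ry ⊢
    exact h.dep_mem hb h3 k hd (h.nty hv h0 1) (hv.adj 1 0) d1 (hv.adj 1 2) (hv.ne _ _) d2 d3 hx
      (h.eqZ _ _ _ hx) x1 (fun e => x1 (h.eqZ.back (h.as hb hv hA 1 hy) e)) (h.aq hb hv hA 2 hy) hy' ry
  obtain ⟨s, hs, hs'⟩ := SetLike.not_le_iff_exists.1 hc'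
  have hA3 := h.ty hv h0 (b + 3)
  have hA2 := h.ty hv h0 2
  have hm := h.nty hv h0 3
  have s1 := h.as hb hv hA3 3 hs
  have s2 := h.as hb hv hA3 4 hs
  have a1 := h.adj_self s1 (hv.adj 3 2)
  have n1 : v 2 ≠ s • v 2 := (h.smul_ne (hv.adj 3 4) (hv.adj 3 2) (hv.ne _ _) s1 s2 hs').symm
  have n2 : v 4 ≠ s • v 2 := (Cub.smul_ne' (hv.ne 4 2) s2).symm
  have sr : Commute s ⁅x, y⁆ := by
    have a2 := h.adj_self (h.as hb hv h0 b hx) (hv.adj b (b + 1))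
    exact (h.Z_comm (h.yA a2 (h.nty hv h0 b)) (h.eqZ _ _ _ hy) (zq hb hA3
      (h.nr_step' (h.nr_arc hv (b + 3) b) a2) (by simp; omega) hs)).mul_right
      (h.Z_comm hA (inv_mem hy) (h.aq hb hv hA3 (b + 1) hs))
  have R := fun {q : G} (hq : q ∈ Q (v 2)) => h.R1 hb h3 hodd hv h0 hc hx hx' hy hy'
    (h.Q_le (hv.adj 2 1) hq) (h.Q_le_self _ hq)
  set r := ⁅x, y⁆
  have f1 : ∀ q ∈ Q (v 2), q ∈ Q (s • v 2) → Commute q r := fun q q1 q2 => by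
    have e := h.eqZ s _ _ (R (h.eqQ.back' rfl q2))
    rw [show s * ⁅s⁻¹ * q * s, r⁆ * s⁻¹ = ⁅q, s * r * s⁻¹⁆ by group, cj_eq sr] at e
    exact commutatorElement_eq_one_iff_commute.1 (h.Z_inf hA2 (hv.adj 2 1) (hv.adj 2 3) (hv.ne _ _)
      (R q1) (h.zinf hb h3 hm (hv.adj 3 2) a1 n1 (h.Z_le hA2 (hv.adj 2 1) (R q1))
        (h.Z_le (h.yA a1 hm) (h.adj_smul s (hv.adj 2 1)) e)))
  have f2 : ∀ p ∈ Q (v 2), ∀ q ∈ Q (v 2), ¬ Commute p r → ¬ Commute q r → Commute (p * q) r :=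
    fun p hp q hq p1 q1 => by
      rw [← commutatorElement_eq_one_iff_commute] at p1 q1 ⊢
      rw [show ⁅p * q, r⁆ = p * ⁅q, r⁆ * p⁻¹ * ⁅p, r⁆ by group,
        cj_eq (h.Z_cent (h.nty hv h0 1) (R hq) (h.Q_le (hv.adj 2 1) hp)),
        h.k1_eq k (h.nty hv h0 1) (R hq) (R hp) q1 p1]
      exact h.Z_sq hA2 (h.Z_le hA2 (hv.adj 2 1) (R hp))
  have key : ∀ q ∈ Q (v 3), Commute q r := by
    by_cases hC : ∀ c ∈ Q (v 2), Commute c r → c ∈ Q (v 3)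
    · obtain ⟨p, p1, p2⟩ := h.exists_T (hv.adj 3 2)
      have g1 : ∀ q ∈ Q (v 2), q ∈ Q (v 3) → Commute q r := fun q q1 q2 => by
        by_contra q3
        exact p2 (((Q (v 3)).mul_mem_cancel_right q2).1
          (hC _ (mul_mem p1 q1) (f2 p p1 q q1 (fun e => p2 (hC p p1 e)) q3)))
      intro q hq
      by_cases q1 : q ∈ Q (v 2)
      · exact g1 q q1 hq
      · obtain ⟨t, t1, t2, t3⟩ := h.noN hb h3 hm a1 (hv.adj 3 2) n1.symm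
        exact comm_of_mul (comm_of_conj sr (g1 _ (h.eqQ.back' rfl t2) (h.eqQ.back' s1 t1)))
          (g1 _ (h.mulQ (hv.adj 3 2) hq t1 q1 t3) (mul_mem hq t1))
    · push Not at hC
      obtain ⟨c, c1, c2, c3⟩ := hC
      have c4 := h.Q_le_self _ c1
      have e := h.swap (hv.adj 3 2) a1 (hv.adj 3 4) n1 (hv.ne _ _) n2.symm
        (h.Q_le (hv.adj 2 3) c1) c4 c3
      have g1 : ∀ q ∈ Q (v 2), q ∈ Q (v 4) → Commute q r := fun q q1 q2 =>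
        comm_of_conj c2 (f1 _ (h.eqQ.back' c4 q1) (h.eqQ.back' e q2))
      obtain ⟨qa, a2, a3, a4⟩ := h.indep hd hm (hv.adj 3 2)
      obtain ⟨qb, b2, b3, b4⟩ := h.indep hd hm a1
      have g2 : ∀ q ∈ Q (v 3), q ∈ Q (v 2) → Commute q r := fun q q1 q2 => by
        by_cases q3 : q ∈ Q (s • v 2)
        · exact f1 q q2 q3
        · exact comm_of_mul (g1 _ (b4 _ (hv.adj 3 2) n1) (b4 _ (hv.adj 3 4) n2))
            (f1 _ (mul_mem q2 (b4 _ (hv.adj 3 2) n1)) (h.mulQ a1 q1 b2 q3 b3))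
      intro q hq
      by_cases q1 : q ∈ Q (v 2)
      · exact g2 q hq q1
      · exact comm_of_mul (comm_of_conj sr (g1 _ (h.eqQ.back' rfl (a4 _ a1 n1.symm))
          (h.eqQ.back' s2 (a4 _ (hv.adj 3 4) (hv.ne _ _)))))
          (g2 _ (mul_mem hq a2) (h.mulQ (hv.adj 3 2) hq a2 q1 a3))
  have r3 : r ∈ Q (v 3) := h.RQ hb h3 hodd hv h0 hx hy hy'
  exact h.Z_le hA2 (hv.adj 2 3) (h.omega (h.ty hv h0 4) (hv.adj 4 3) (h.Q_le (hv.adj 3 4) r3)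
    (h.Q_le_self _ r3) rsq fun g h6 h7 => h.central (hv.adj 3 4) key s1 s2 hs' sr h7 h6)

theorem Rmem : ⁅x, y⁆ ∈ Z (v 2) := by
  by_cases h5 : 5 ≤ b
  · obtain ⟨w, hw, e1, e2, -⟩ := h.fshift hb h3 hodd hv h0 hc
    rw [← e1 0 (by omega)] at h0 hc hx
    rw [← e1 b (by omega)] at hc hx'
    rw [← e1 (b + 1) (by omega)] at hy
    rw [← e1 1 (by omega)] at hy'
    rw [← e1 2 (by omega)]
    exact h.Rmem5 hb h3 hodd hw h0 hc hx hx' hy hy' h5 e2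
  · obtain rfl : b = 3 := by omega
    have hA2 := h.ty hv h0 2
    refine h.omegaQ hA2 (h.RQ hb h3 hodd hv h0 hx hy hy') (h.Rsq hb h3 hodd hv h0 hx hy hy').1
      fun q hq => commutatorElement_eq_one_iff_commute.1 (h.Z_inf hA2 (hv.adj 2 1) (hv.adj 2 3)
        (hv.ne _ _) (h.R1 hb h3 hodd hv h0 hc hx hx' hy hy' (h.Q_le (hv.adj 2 1) hq)
          (h.Q_le_self _ hq)) ?_)
    have := h.R1 hb h3 hodd (hv.rev 4) (h.ty hv h0 _) (h.orev hb h3 hodd hv h0 hc) hy hy' hx hx'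
      (h.Q_le (hv.adj 2 3) hq) (h.Q_le_self _ hq)
    have e : ⁅y, x⁆ = ⁅x, y⁆ := by
      rw [← commutatorElement_inv]
      exact inv_eq_of_mul_eq_one_right (h.Rsq hb h3 hodd hv h0 hx hy hy').1
    rwa [e] at this

theorem Rmem' : ⁅x, y⁆ ∈ Z (v (b - 1)) ∧ ⁅x, y⁆ ∉ Z (v b) := by
  have e1 := h.Rmem hb h3 hodd (hv.rev (b + 1)) (h.ty hv h0 _)
    (by simpa using h.orev hb h3 hodd hv h0 hc) (x := y) (y := x) (by simpa using hy)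
    (by simpa using hy') (by simpa using hx) (by simpa using hx')
  have e2 := h.Rnot hb h3 hodd (hv.rev (b + 1)) (h.ty hv h0 _) (x := y) (y := x) (by simpa using hy)
    (by simpa using hy') (by simpa using hx) (by simpa using hx')
  rw [← commutatorElement_inv, inv_mem_iff] at e1 e2
  exact ⟨by rwa [show b + 1 - 2 = b - 1 by omega] at e1, by simpa using e2⟩

theorem R3 (h5 : 5 ≤ b) : ⁅x, y⁆ ∈ Z (v 3) := by
  obtain ⟨w, hw, e1, -, e2⟩ := h.fshift hb h3 hodd hv h0 hc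
  by_contra hr
  have hw0 : A (w 0) := by rwa [e1 0 (by omega)]
  refine e2 (k1_le (h.ok1 hb h3 hodd hv h0 hc) (h.ty hw hw0 2) (hw.adj 2 3)
    (fun u hu => h.aq hb hw (h.ty hw hw0 4) _ (h.Z_le (h.ty hw hw0 4) (hw.adj 4 3) hu))
    (x := ⁅x, y⁆) ?_ ?_ (h.aq hb hw (h.ty hw hw0 (b - 1)) _ ?_))
  · rw [e1 _ (by omega)]; exact h.Rmem hb h3 hodd hv h0 hc hx hx' hy hy'
  · rwa [e1 _ (by omega)]
  · rw [e1 _ (by omega)]; exact (h.Rmem' hb h3 hodd hv h0 hc hx hx' hy hy').1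

end xy

theorem R3' (h5 : 5 ≤ b) : Z (v 3) ≤ Z (v (b - 2)) := by
  obtain ⟨x, hx, hx'⟩ := SetLike.not_le_iff_exists.1 hc
  obtain ⟨y, hy, hy'⟩ := SetLike.not_le_iff_exists.1 (h.orev hb h3 hodd hv h0 hc)
  have e1 := h.R3 hb h3 hodd (hv.rev (b + 1)) (h.ty hv h0 _)
    (by simpa using h.orev hb h3 hodd hv h0 hc) (x := y) (y := x) (by simpa using hy)
    (by simpa using hy') (by simpa using hx) (by simpa using hx') h5
  rw [← commutatorElement_inv, inv_mem_iff, show b + 1 - 3 = b - 2 by omega] at e1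
  exact h.k1_le_of_mem (h.ok1 hb h3 hodd hv h0 hc) (h.nty hv h0 3)
    (h.R3 hb h3 hodd hv h0 hc hx hx' hy hy' h5)
    (fun e => h.Rnot hb h3 hodd hv h0 hx hx' hy hy' (e ▸ one_mem _)) e1

theorem not_seven : ¬ 7 ≤ b := fun h7 => by
  obtain ⟨w, hw, e1, e2⟩ := h.shift hb h3 hodd hv h0 hc
  have hw0 : A (w 0) := by rwa [e1 0 le_rfl]
  obtain ⟨u, hu, e3, e4⟩ := h.shift hb h3 hodd (hw.shift (-2)) (h.ty hw hw0 _)
    (by simpa [sub_eq_add_neg] using e2)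
  have hu2 : A (u 2) := by rw [e3 2 (by omega)]; exact hw0
  have e5 := h.R3' hb h3 hodd (hu.shift (-2)) (h.ty hu hu2 _) (by simpa [sub_eq_add_neg] using e4)
    (by omega)
  refine hc ?_
  rw [← e1 0 le_rfl, ← e1 b (by omega), show w 0 = u 2 from (e3 2 (by omega)).symm,
    show w b = u (b + 2) by rw [e3 _ (by omega)]; simp]
  exact h.k1_le' (h.ok1 hb h3 hodd hv h0 hc) hu2 (hu.adj 2 3) (hu.adj 2 (3 + -2)) (hu.ne _ _)
    (fun s hs => h.aq hb hu (h.ty hu hu2 4) _ (h.Z_le (h.ty hu hu2 4) (hu.adj 4 3) hs))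
    (fun s hs => h.aq hb hu (h.ty hu hu2 (b - 3)) _
      (h.Z_le (h.ty hu hu2 (b - 3)) (hu.adj _ _) (e5 hs)))

theorem all_crit (h5 : b ≤ 5) {u : ℤ → V} (hu : Arc Γ u) (hA : A (u 0)) : ¬ Z (u 0) ≤ Q (u b) := by
  obtain ⟨x, hx, hx'⟩ := SetLike.not_le_iff_exists.1 hc
  obtain ⟨q, q1, q2, q3⟩ := h.noN hb h3 (h.nty hv h0 1) (hv.adj 1 0) (hv.adj 1 2) (hv.ne _ _)
  obtain ⟨g, hg⟩ := h.arc_trans (b - 1).toNat (fun w hw m h1 h2 => h.all_free (n := 3) hv hv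
    (h.ty hv h0 2) (h.nty hv h0 b) ⟨q, fun k h4 h6 => by
      obtain rfl | rfl | rfl | rfl : k = -1 ∨ k = 0 ∨ k = 1 ∨ k = 2 := by omega
      exacts [h.Q_le (hv.adj 0 _) q2, h.Q_le_self _ q2, h.Q_le_self _ q1, h.Q_le (hv.adj 1 _) q1], q3⟩
    ⟨x, fun j h5 h6 => h.as hb hv h0 j hx, hx'⟩ hw 0 m) (hv.shift 1) (hu.shift 1)
    (iff_of_false (h.nty hv h0 _) (h.nty hu hA _))
  have e1 : g • v 1 = u 1 := hg 0 le_rfl (by omega)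
  have e2 : g • v 2 = u 2 := hg 1 (by omega) (by omega)
  have e3 : g • v b = u b := by simpa using hg (b - 1) (by omega) (by omega)
  have := h.ocrit hb h3 hodd (h.arc_smul hv g) ((h.A_smul _ _).2 h0)
    (fun hle => hc fun s hs => h.eqQ.back rfl (hle (h.eqZ _ _ _ hs))) (l := u 0)
    (by rw [e1]; exact hu.adj _ _) (by rw [e2]; exact hu.ne _ _)
  rwa [e3] at this

theorem five_aux (h5 : b = 5) {u : ℤ → V} (hu : Arc Γ u) (hA : A (u 0)) {s t : G}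
    (hs : s ∈ Z (u (-2))) (hs' : s ∉ Z (u (-1))) (ht : t ∈ Z (u 6)) (ht' : t ∉ Z (u 5)) :
    (s * t) ^ 4 ≠ 1 ∧ (s * t) ^ 4 ∈ Z (u 1) := by
  subst h5
  have cr := fun {u : ℤ → V} (hu : Arc Γ u) (hA : A (u 0)) =>
    h.all_crit hb h3 hodd hv h0 hc le_rfl hu hA
  have hA6 := h.ty hu hA 6
  have t1 := h.as hb hu hA6 1 ht
  have t2 : t ∉ Q (u 1) := h.notQ hb h3 hodd (hu.rev 6) hA6 (cr (hu.rev 6) hA6) ht ht'
  obtain ⟨w, hw, e0, e1, e3, e5, e6⟩ : ∃ w, Arc Γ w ∧ u (-2) = w 0 ∧ u (-1) = w 1 ∧ u 1 = w 3 ∧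
      t • u (-1) = w 5 ∧ t • u (-2) = w 6 :=
    ⟨_, ((h.arc_smul hu t).rev 4).glue (hu.shift (-2)) 3 (by simpa using Eq.symm t1)
      (by simpa using (h.smul_ne (hu.adj 1 2) (hu.adj 1 0) (hu.ne _ _) t1
        (h.as hb hu hA6 2 ht) t2).symm), by simp, by simp, by simpa using Eq.symm t1, by simp, by simp⟩
  have hw0 : A (w 0) := e0 ▸ h.ty hu hA (-2)
  have s2 : t * s * t⁻¹ ∈ Z (w 6) := h.eqZ.of_eq e6 hs
  have s1 : t * s * t⁻¹ ∉ Z (w 5) := fun e => hs' (h.eqZ.back e5 e)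
  rw [e0] at hs
  rw [e1] at hs'
  have hw6 := h.ty hw hw0 6
  have s3 := h.notQ hb h3 hodd hw hw0 (cr hw hw0) hs hs'
  have s4 := h.notQ hb h3 hodd (hw.rev 6) hw6 (cr (hw.rev 6) hw6) s2 s1
  have e : (s * t) ^ 4 = ⁅s, t * s * t⁻¹⁆ := by
    rw [commutatorElement_def, h.inv_eq hw0 hs, h.inv_eq hw6 s2, h.inv_eq hA6 ht]
    simp only [pow_succ, pow_zero, one_mul, mul_assoc]
  rw [e, e3]
  exact ⟨fun e => h.Rnot hb h3 hodd hw hw0 hs s3 s2 s4 (e ▸ one_mem _),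
    h.R3 hb h3 hodd hw hw0 (cr hw hw0) hs s3 s2 s4 le_rfl⟩

theorem eq_three : b = 3 := by
  have h7 := h.not_seven hb h3 hodd hv h0 hc
  by_contra hne
  have h5 : b = 5 := by omega
  obtain ⟨s, hs, hs'⟩ := h.exists_Z' (h.ty hv h0 (-2)) (hv.adj _ (-1))
  obtain ⟨t, ht, ht'⟩ := h.exists_Z' (h.ty hv h0 6) (hv.adj _ 5)
  obtain ⟨e1, e2⟩ := h.five_aux hb h3 hodd hv h0 hc h5 hv h0 hs hs' ht ht'
  obtain ⟨-, e3⟩ := h.five_aux hb h3 hodd hv h0 hc h5 (hv.rev 4) (h.ty hv h0 _) ht ht' hs hs'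
  refine e1 (h.Z_inf (h.ty hv h0 2) (hv.adj 2 1) (hv.adj 2 3) (hv.ne _ _) e2 ?_)
  rw [← inv_mem_iff, ← inv_pow, _root_.mul_inv_rev, h.inv_eq (h.ty hv h0 (-2)) hs,
    h.inv_eq (h.ty hv h0 6) ht]
  exact e3

end Am

end CfsgLib.Gam
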