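import Mathlib
import Cfsg.Agent.Lib.Gam.Odd2

/-!
Goldschmidt amalgams: the bound for critical distance three, and the bound in general.
-/

set_option autoImplicit false
set_option linter.unusedSectionVars false

namespace CfsgLib.Gam

open Subgroup MulAction CfsgLib.LAE
open scoped commutatorElement

/-- `x ∈ Z l \ Z m` for a path `l, m, a`. -/
structure Rt {G V : Type*} [Group G] (Γ : SimpleGraph V) (Z : V → Subgroup G) (a m : V) (x : G) :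
    Prop where
  adj : Γ.Adj a m
  ex : ∃ l, Γ.Adj m l ∧ l ≠ a ∧ x ∈ Z l
  nm : x ∉ Z m

/-- The local facts for critical distance three. -/
structure Loc3 {G V : Type*} [Group G] [MulAction G V] (Γ : SimpleGraph V) (A : V → Prop)
    (Q Z : V → Subgroup G) : Prop extends Am Γ A Q Z where
  cd : CD Γ A Q Z 3
  k : K1 Γ A Z
  L1 : ∀ {a m n : V} {x : G}, A a → Rt Γ Z a m x → Γ.Adj a n → m ≠ n → x ∉ Q n
  L2 : ∀ {a m n : V} {x y : G}, A a → Rt Γ Z a m x → Rt Γ Z a n y → m ≠ n →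
    ⁅x, y⁆ ∈ Z a ∧ ⁅x, y⁆ ∉ Z m

theorem Am.loc3 {G V : Type*} [Group G] [MulAction G V] {Γ : SimpleGraph V} {A : V → Prop}
    {Q Z : V → Subgroup G} (h : Am Γ A Q Z) (hb : CD Γ A Q Z 3) {v : ℤ → V} (hv : Arc Γ v)
    (h0 : A (v 0)) (hc : ¬ Z (v 0) ≤ Q (v 3)) : Loc3 Γ A Q Z := by
  have key : ∀ {l m a n l' : V}, Γ.Adj m l → l ≠ a → Γ.Adj a m → Γ.Adj a n → m ≠ n → Γ.Adj n l' →
      l' ≠ a → ∃ w, Arc Γ w ∧ w 0 = l ∧ w 1 = m ∧ w 2 = a ∧ w 3 = n ∧ w 4 = l' :=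
    fun {l m a n l'} h1 h2 h3 h4 h5 h6 h7 => by
      obtain ⟨w1, hw1, rfl, rfl⟩ := h.exists_arc h1.symm
      obtain ⟨w2, hw2, e1, rfl⟩ := h.arc_fwd hw1 1 h3.symm h2.symm
      obtain ⟨w3, hw3, e2, rfl⟩ := h.arc_fwd hw2 (1 + 1) h4
        (by rw [show (1 : ℤ) + 1 - 1 = 1 by omega, e1 1 le_rfl]; exact h5.symm)
      obtain ⟨w4, hw4, e3, rfl⟩ := h.arc_fwd hw3 (1 + 1 + 1) h6
        (by rw [show (1 : ℤ) + 1 + 1 - 1 = 1 + 1 by omega, e2 _ le_rfl]; exact h7)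
      exact ⟨w4, hw4, by rw [e3 _ (by omega), e2 _ (by omega), e1 _ (by omega)],
        by rw [e3 _ (by omega), e2 _ (by omega), e1 _ (by omega)],
        by rw [e3 _ (by omega), e2 _ (by omega)]; rfl, e3 _ (by omega), rfl⟩
  have cr := fun {u : ℤ → V} (hu : Arc Γ u) (hA : A (u 0)) =>
    h.all_crit hb le_rfl rfl hv h0 hc (by omega) hu hA
  refine ⟨h, hb, h.ok1 hb le_rfl rfl hv h0 hc, fun {a m n x} ha hx hn hne => ?_,
    fun {a m n x y} ha hx hy hne => ?_⟩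
  · obtain ⟨l, h1, h2, h3⟩ := hx.ex
    obtain ⟨l', h4, h5⟩ := h.exists_other hn.symm
    obtain ⟨w, hw, rfl, rfl, rfl, rfl, rfl⟩ := key h1 h2 hx.adj hn hne h4 h5
    exact h.notQ hb le_rfl rfl hw (h.ty hw ha 0) (cr hw (h.ty hw ha 0)) h3 hx.nm
  · obtain ⟨l, h1, h2, h3⟩ := hx.ex
    obtain ⟨l', h4, h5, h6⟩ := hy.ex
    obtain ⟨w, hw, rfl, rfl, rfl, rfl, rfl⟩ := key h1 h2 hx.adj hy.adj hne h4 h5
    have hA := h.ty hw ha 0
    have s3 := h.notQ hb le_rfl rfl hw hA (cr hw hA) h3 hx.nm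
    have s4 := h.notQ hb le_rfl rfl (hw.rev 4) (h.ty hw ha 4) (cr (hw.rev 4) (h.ty hw ha 4)) h6 hy.nm
    exact ⟨h.Rmem hb le_rfl rfl hw hA (cr hw hA) h3 s3 h6 s4, h.Rnot hb le_rfl rfl hw hA h3 s3 h6 s4⟩

namespace Loc3

variable {G V : Type*} [Group G] [MulAction G V] {Γ : SimpleGraph V} {A : V → Prop}
  {Q Z : V → Subgroup G} (h : Loc3 Γ A Q Z)
include h

theorem exists_rt {a m : V} (ha : A a) (hm : Γ.Adj a m) : ∃ x, Rt Γ Z a m x := by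
  obtain ⟨l, h1, h2⟩ := h.exists_other hm.symm
  obtain ⟨x, h3, h4⟩ := h.exists_Z' (h.yA h1 (h.nA hm ha)) h1.symm
  exact ⟨x, hm, ⟨l, h1, h2, h3⟩, h4⟩

theorem rt_Q {a m : V} {x : G} (ha : A a) (hx : Rt Γ Z a m x) : x ∈ Q a := by
  obtain ⟨l, h1, -, h3⟩ := hx.ex
  exact h.zz h.cd le_rfl (h.nA hx.adj ha) h1 hx.adj.symm h3

theorem rt_sq {a m : V} {x : G} (ha : A a) (hx : Rt Γ Z a m x) : x * x = 1 := by
  obtain ⟨l, h1, -, h3⟩ := hx.ex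
  exact h.Z_sq (h.yA h1 (h.nA hx.adj ha)) h3

theorem rt_smul {a m : V} {x : G} (hx : Rt Γ Z a m x) (g : G) :
    Rt Γ Z (g • a) (g • m) (g * x * g⁻¹) := by
  obtain ⟨l, h1, h2, h3⟩ := hx.ex
  exact ⟨h.adj_smul g hx.adj, ⟨g • l, h.adj_smul g h1, fun e => h2 ((smul_left_cancel_iff g).1 e),
    h.eqZ _ _ _ h3⟩, fun e => hx.nm (h.eqZ.back rfl e)⟩

theorem rt_conj {a m n : V} {x g : G} (hx : Rt Γ Z a m x) (hg : g ∈ stabilizer G a)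
    (e : g • m = n) : Rt Γ Z a n (g * x * g⁻¹) := by
  have := h.rt_smul hx g
  rwa [mem_stabilizer_iff.1 hg, e] at this

theorem L5 {a m : V} {x y : G} (ha : A a) (hx : Rt Γ Z a m x) (hy : Rt Γ Z a m y) :
    x * y⁻¹ ∈ Z a := by
  have hm := h.nA hx.adj ha
  obtain ⟨l, h1, h2, h3⟩ := hx.ex
  obtain ⟨l', h4, h5, h6⟩ := hy.ex
  have hy' : y⁻¹ ∉ Z m := fun e => hy.nm (inv_mem_iff.1 e)
  by_cases e : l = l'
  · subst e
    exact h.Z_le ha hx.adj (h.k l m (h.yA h1 hm) h1.symm x h3 _ (inv_mem h6) hx.nm hy')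
  obtain ⟨n, h7, h8⟩ := h.exists_other hx.adj
  obtain ⟨s, hs⟩ := h.exists_rt ha h7
  have s1 := h.rt_Q ha hs
  have s2 := h.Q_le hx.adj s1
  have e1 := h.swap hx.adj.symm h1 h4 h2.symm h5.symm e s2 (h.Q_le_self a s1)
    (h.L1 ha hs hx.adj h8)
  have e2 := h.k l' m (h.yA h4 hm) h4.symm _ (h.eqZ.of_eq e1 h3) _ (inv_mem h6)
    (fun e => hx.nm (h.eqZ.back s2 e)) hy'
  have e3 := (h.L2 ha hx hs h8.symm).1
  rw [h.r_eq (v := fun _ => l) (h.yA h1 hm) h3] at e3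
  have := mul_mem e3 (h.Z_le ha hx.adj e2)
  rwa [show x * (s * x * s⁻¹) * (s * x * s⁻¹ * y⁻¹) = x * (s * (x * x) * s⁻¹) * y⁻¹ by group,
    h.rt_sq ha hx, mul_one, mul_inv_cancel, mul_one] at this

theorem L4 {a m : V} {x q : G} (ha : A a) (hx : Rt Γ Z a m x) (hq : q ∈ Q a) : ⁅q, x⁆ ∈ Z a :=
  h.L5 ha (h.rt_conj hx (h.Q_le_self a hq) (h.Q_le hx.adj hq)) hx

theorem rt_comm {a m : V} {x y e : G} (ha : A a) (hx : Rt Γ Z a m x) (hy : Rt Γ Z a m y)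
    (he : e ∈ Q a) : ⁅e, x⁆ = ⁅e, y⁆ := by
  have h1 := h.L5 ha hx hy
  have h2 := cj_eq (h.Z_comm ha h1 he)
  have h3 := cj_eq (h.Z_comm ha (h.L4 ha hy he) (h.Z_le_Q ha h1))
  calc ⁅e, x⁆ = (e * (x * y⁻¹) * e⁻¹) * ⁅e, y⁆ * (x * y⁻¹)⁻¹ := by group
    _ = _ := by rw [h2, h3]

theorem EC {a m : V} {x e : G} (ha : A a) (hx : Rt Γ Z a m x) (he : e ∈ Q a) (hc : Commute e x) :
    e ∈ I Γ Q m := by
  have hm := h.nA hx.adj ha
  have e1 := h.Q_le hx.adj he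
  have key : ∀ l, Γ.Adj m l → l ≠ a → ∃ y ∈ Z l, y ∉ Z m ∧ Commute e y := fun l h1 h2 => by
    obtain ⟨y, h3, h4⟩ := h.exists_Z' (h.yA h1 hm) h1.symm
    refine ⟨y, h3, h4, commutatorElement_eq_one_iff_commute.1 ?_⟩
    rw [← h.rt_comm ha hx ⟨hx.adj, ⟨l, h1, h2, h3⟩, h4⟩ he, hc.commutator_eq]
  refine mem_I.2 fun l h1 => ?_
  by_cases h2 : l = a
  · exact h2 ▸ he
  obtain ⟨y, h3, h4, h5⟩ := key l h1 h2
  refine h.mem_Q_of_comm (h.yA h1 hm) h1.symm h3 h4 ?_ e1 h5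
  by_contra h6
  refine h4 (h.zinf h.cd le_rfl hm (h.adj_self e1 h1) h1 h6 ?_ h3)
  rw [← cj_eq h5]
  exact h.eqZ _ _ _ h3

theorem Z_le_C {a : V} (ha : A a) {x : G} (hx : x ∈ Z a) : x ∈ I Γ (I Γ Q) a :=
  mem_I.2 fun _ hm => mem_I.2 fun _ hl => h.zz h.cd le_rfl (h.nA hm ha) hm.symm hl hx

theorem C_comm {a m : V} {x c : G} (ha : A a) (hx : Rt Γ Z a m x) (hc : c ∈ I Γ (I Γ Q) a) :
    Commute c x := by
  obtain ⟨l, h1, -, h3⟩ := hx.ex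
  exact h.Z_comm (h.yA h1 (h.nA hx.adj ha)) h3 (mem_I.1 (mem_I.1 hc m hx.adj) l h1)

theorem C1 {a m : V} {c : G} (ha : A a) (hm : Γ.Adj a m) (hc : c ∈ I Γ (I Γ Q) a) :
    ∃ u ∈ Z a, c * u ∈ I Γ (I Γ (I Γ Q)) m := by
  have eC := h.eqI (h.eqI h.eqQ)
  have hm' := h.nA hm ha
  obtain ⟨a', a'', h1, h2, n1, n2, n3⟩ := h.exists_two hm.symm
  have ha' := h.yA h1 hm'
  have ha'' := h.yA h2 hm'
  obtain ⟨n, h3, h4⟩ := h.exists_other h2.symm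
  obtain ⟨s, hs⟩ := h.exists_rt ha'' h3
  have s1 := h.rt_Q ha'' hs
  have e1 := eC.of_eq (h.swap h2 hm.symm h1 n2.symm n3.symm n1 (h.Q_le h2.symm s1)
    (h.Q_le_self _ s1) (h.L1 ha'' hs h2.symm h4)) hc
  have c1 := mem_I.1 (mem_I.1 hc m hm) a hm.symm
  have c2 := h.L4 ha'' hs (mem_I.1 (mem_I.1 hc m hm) a'' h2)
  obtain ⟨u, u1, u2⟩ : ∃ u ∈ Z a, c * u ∈ I Γ (I Γ Q) a' := by
    have e2 : c = ⁅c, s⁆ * (s * c * s⁻¹) := by group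
    by_cases h5 : ⁅c, s⁆ ∈ Z m
    · refine ⟨1, one_mem _, ?_⟩
      rw [mul_one, e2]
      exact mul_mem (h.Z_le_C ha' (h.Z_le ha' h1.symm h5)) e1
    · obtain ⟨u, u1, u2⟩ := h.exists_Z' ha hm
      refine ⟨u⁻¹, inv_mem u1, ?_⟩
      have := h.L5 ha' (x := u⁻¹) ⟨h1.symm, ⟨a, hm.symm, n1, inv_mem u1⟩, fun e => u2 (inv_mem_iff.1 e)⟩
        (y := ⁅c, s⁆⁻¹) ⟨h1.symm, ⟨a'', h2, n3.symm, inv_mem c2⟩, fun e => h5 (inv_mem_iff.1 e)⟩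
      rw [(h.Z_comm ha (inv_mem u1) c1).eq, e2, ← mul_assoc u⁻¹]
      rw [inv_inv] at this
      exact mul_mem (h.Z_le_C ha' this) e1
  have u3 := mul_mem hc (h.Z_le_C ha u1)
  refine ⟨u, u1, mem_I.2 fun y hy => ?_⟩
  rcases h.three hm.symm h1 h2 hy n1 n2 n3 with rfl | rfl | rfl
  · exact u3
  · exact u2
  · obtain ⟨n, h5, h6⟩ := h.exists_other hm
    obtain ⟨t, ht⟩ := h.exists_rt ha h5
    have t1 := h.rt_Q ha ht
    rw [← cj_eq (h.C_comm ha ht u3).symm]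
    exact eC.of_eq (h.swap hm.symm h1 h2 n1 n2 n3 (h.Q_le hm t1) (h.Q_le_self _ t1)
      (h.L1 ha ht hm h6)) u2

theorem C2 {a : V} (ha : A a) : I Γ (I Γ (I Γ (I Γ Q))) a = ⊥ := by
  by_contra hne
  obtain ⟨m, hm⟩ := h.exists_adj a
  have hQ : ∀ {x}, x ∈ I Γ (I Γ (I Γ (I Γ Q))) a → x ∈ Q a := fun hx =>
    mem_I.1 (mem_I.1 (mem_I.1 (mem_I.1 hx m hm) a hm.symm) m hm) a hm.symm
  obtain ⟨z, h1, h2, h3⟩ := h.meet ha hm (fun x hx => ⟨h.Q_le_self a (hQ hx), h.Q_le hm (hQ hx)⟩)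
    (inf_le_left.trans ((h.eqI (h.eqI (h.eqI (h.eqI h.eqQ)))).norm a)) hne
  obtain ⟨n, hn, n1⟩ := h.exists_other hm
  obtain ⟨a', ha', n2⟩ := h.exists_other hn.symm
  obtain ⟨n', hn', n3⟩ := h.exists_other ha'.symm
  obtain ⟨l, hl, n4⟩ := h.exists_other hn'.symm
  have e := mem_I.1 (mem_I.1 (mem_I.1 (mem_I.1 h1 n hn) a' ha') n' hn')
  exact h.L1 (h.yA ha' (h.nA hn ha)) ⟨ha'.symm, ⟨a, hn.symm, n2.symm, h.Z_le ha hm h2⟩,
    fun h4 => h3 (h.Z_inf ha hn hm n1 h4 h2)⟩ hn' n3.symm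
    (h.mem_Q hl hn'.symm n4 (h.Q_le hl.symm (e l hl)) (h.Q_le_self _ (e l hl))
      (h.Q_le_self _ (e a' hn'.symm)))

theorem C3 {a : V} {c : G} (ha : A a) (hc : c ∈ I Γ (I Γ Q) a) : c ∈ Z a := by
  obtain ⟨m, hm⟩ := h.exists_adj a
  have c1 := mem_I.1 (mem_I.1 hc m hm) a hm.symm
  refine h.omegaQ ha c1 ?_ fun q hq => commutatorElement_eq_one_iff_commute.1 ?_
  · rw [← mem_bot, ← h.C2 ha]
    refine mem_I.2 fun n hn => ?_
    obtain ⟨u, u1, u2⟩ := h.C1 ha hn hc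
    have := mul_mem u2 u2
    rwa [(h.Z_comm ha u1 c1).symm.mul_mul_mul_comm, h.Z_sq ha u1, mul_one] at this
  · rw [← mem_bot, ← h.C2 ha]
    refine mem_I.2 fun n hn => ?_
    obtain ⟨u, u1, u2⟩ := h.C1 ha hn hc
    have := mul_mem ((h.eqI (h.eqI (h.eqI h.eqQ))).self (h.Q_le hn hq) u2) (inv_mem u2)
    rwa [show q * (c * u) * q⁻¹ * (c * u)⁻¹ = q * c * q⁻¹ * (q * u * q⁻¹) * u⁻¹ * c⁻¹ by group,
      cj_eq (h.Z_comm ha u1 hq), mul_inv_cancel_right] at this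

section H
variable {a m n k : V} (ha : A a) (hm : Γ.Adj a m) (n1 : m ≠ n) (n2 : m ≠ k) (n3 : n ≠ k) {y w : G}
  (hy : Rt Γ Z a n y) (hw : Rt Γ Z a k w)
include ha hm n1 n2 n3 hy hw

theorem exists_t : ∃ t ∈ Q m, t ∉ Q a ∧ ∀ e ∈ I Γ Q m, (⁅e, w⁆)⁻¹ * (t * ⁅e, y⁆ * t⁻¹) ∈ Z n := by
  have hm' := h.nA hm ha
  obtain ⟨a', h1, h2⟩ := h.exists_other hm.symm
  have ha' := h.yA h1 hm'
  obtain ⟨n', k', h3, h4, n4, n5, n6⟩ := h.exists_two h1.symm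
  obtain ⟨y', hy'⟩ := h.exists_rt ha' h3
  obtain ⟨w', hw'⟩ := h.exists_rt ha' h4
  have y1 := h.rt_Q ha' hy'
  have w1 := h.rt_Q ha' hw'
  have t1 := h.mul_mem h1 (h.Q_le h1.symm y1) (h.Q_le_self _ y1) (h.Q_le h1.symm w1)
    (h.Q_le_self _ w1) (h.L1 ha' hy' h1.symm n4.symm) (h.L1 ha' hw' h1.symm n5.symm)
  have t2 : y' * w' ∉ Q a := fun hq => by
    obtain ⟨u, u1, u2⟩ := h.exists_Z' ha hm
    have hu : Rt Γ Z a' m u := ⟨h1.symm, ⟨a, hm.symm, h2.symm, u1⟩, u2⟩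
    obtain ⟨c1, c2⟩ := h.L2 ha' hu hy' n4
    obtain ⟨-, c3⟩ := h.L2 ha' hy' hu n4.symm
    obtain ⟨c4, c5⟩ := h.L2 ha' hw' hu n5.symm
    have e := (h.Z_comm ha u1 hq).commutator_eq
    rw [show ⁅y' * w', u⁆ = y' * ⁅w', u⁆ * y'⁻¹ * ⁅u, y'⁆⁻¹ by group, cj_eq (h.Z_comm ha' c4 y1),
      mul_inv_eq_one] at e
    rw [← commutatorElement_inv, inv_mem_iff] at c3
    exact c5 (e ▸ h.k1_third h.k ha' h1.symm h3 h4 n4 n5 n6 c1 c2 c3)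
  refine ⟨_, t1, t2, fun e he => ?_⟩
  have e1 := mem_I.1 he a' h1
  have e2 := mem_I.1 he a hm.symm
  have s1 : ⁅y' * w', e⁆ ∈ Z a' := by
    rw [show ⁅y' * w', e⁆ = y' * ⁅e, w'⁆⁻¹ * y'⁻¹ * ⁅e, y'⁆⁻¹ by group,
      cj_eq (h.Z_comm ha' (inv_mem (h.L4 ha' hw' e1)) y1)]
    exact mul_mem (inv_mem (h.L4 ha' hw' e1)) (inv_mem (h.L4 ha' hy' e1))
  set t := y' * w'
  have t3 := h.Q_le hm.symm t1
  have hty := h.rt_conj hy t3 (h.swap hm hy.adj hw.adj n1 n2 n3 t3 (h.Q_le_self _ t1) t2)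
  have s2 := h.zz h.cd le_rfl hm' h1 hm.symm s1
  have e3 := h.rt_comm ha hty hw (mul_mem s2 e2)
  rw [show t * ⁅e, y⁆ * t⁻¹ = ⁅⁅t, e⁆ * e, t * y * t⁻¹⁆ by group, e3,
    show ⁅⁅t, e⁆ * e, w⁆ = ⁅t, e⁆ * ⁅e, w⁆ * ⁅t, e⁆⁻¹ * ⁅⁅t, e⁆, w⁆ by group,
    cj_eq (h.Z_comm ha (h.L4 ha hw e2) s2), inv_mul_cancel_left]
  by_cases h5 : ⁅t, e⁆ ∈ Z m
  · rw [(h.Z_comm ha (h.Z_le ha hm h5) (h.rt_Q ha hw)).symm.commutator_eq]
    exact one_mem _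
  · have hs : Rt Γ Z a m ⁅t, e⁆ := ⟨hm, ⟨a', h1, h2, s1⟩, h5⟩
    obtain ⟨c1, c2⟩ := h.L2 ha hs hw n2
    obtain ⟨-, c3⟩ := h.L2 ha hw hs n2.symm
    rw [← commutatorElement_inv, inv_mem_iff] at c3
    exact h.k1_third h.k ha hm hw.adj hy.adj n2 n1 n3.symm c1 c2 c3

theorem C4 {x e : G} (hx : Rt Γ Z a m x) (he : e ∈ Q a) (h1 : Commute e x) (h2 : Commute e (y * w)) :
    e ∈ Z a := by
  obtain ⟨t, t1, t2, t3⟩ := h.exists_t ha hm n1 n2 n3 hy hw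
  have u1 := h.L4 ha hy he
  have u2 := h.L4 ha hw he
  have e1 : ⁅e, w⁆ = ⁅e, y⁆ := by
    have := h2.commutator_eq
    rw [show ⁅e, y * w⁆ = ⁅e, y⁆ * (y * ⁅e, w⁆ * y⁻¹) by group,
      cj_eq (h.Z_comm ha u2 (h.rt_Q ha hy))] at this
    rw [← h.inv_eq ha u1, inv_eq_of_mul_eq_one_right this]
  have e2 := h.EC ha hx he h1
  by_cases hu : ⁅e, y⁆ = 1
  · refine h.C3 ha (mem_I.2 fun j hj => ?_)
    rcases h.three hm hy.adj hw.adj hj n1 n2 n3 with rfl | rfl | rfl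
    · exact e2
    · exact h.EC ha hy he (commutatorElement_eq_one_iff_commute.1 hu)
    · exact h.EC ha hw he (commutatorElement_eq_one_iff_commute.1 (e1.trans hu))
  exfalso
  have t4 := h.Q_le hm.symm t1
  have t5 := h.Q_le_self _ t1
  have u3 : ⁅e, y⁆ ∈ Z m := by
    have e3 := t3 e e2
    have e4 := h.comm ha hm u1 t4 t5
    rw [e1, h.inv_eq ha u1, (h.Z_comm ha (h.eqZ.self t4 u1) (h.Z_le_Q ha u1)).eq] at e3
    rw [commutatorElement_def t, h.inv_eq ha u1] at e4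
    have e5 := h.Z_inf ha hm hy.adj n1 e4 e3
    refine h.fix ha hm u1 t4 t5 t2 (comm_of_cj ?_)
    rw [eq_inv_of_mul_eq_one_left e5, h.inv_eq ha u1]
  obtain ⟨g, g1, g2⟩ := h.exists_T hw.adj
  have g3 := h.Q_le hw.adj.symm g1
  have g4 := h.Q_le_self _ g1
  have g5 := h.swap hw.adj hm hy.adj n2.symm n3.symm n1 g3 g4 g2
  have g6 := h.swap hw.adj hy.adj hm n3.symm n2.symm n1.symm g3 g4 g2
  have f0 := h.eqQ.self g3 he
  have cj : ∀ s : G, ⁅g * e * g⁻¹, g * s * g⁻¹⁆ = g * ⁅e, s⁆ * g⁻¹ := fun s => by group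
  have f1 := h.rt_comm ha hy (h.rt_conj hx g3 g5) f0
  have f2 := h.rt_comm ha hx (h.rt_conj hy g3 g6) f0
  have f3 := h.rt_comm ha hw (h.rt_conj hw g3 g4) f0
  rw [cj, h1.commutator_eq, mul_one, mul_inv_cancel] at f1
  rw [cj] at f2
  rw [cj, e1] at f3
  have b1 := h.eqZ.of_eq g5 u3
  have b2 : g * ⁅e, y⁆ * g⁻¹ ≠ 1 := fun e => hu (conj_eq_one_iff.1 e)
  generalize g * ⁅e, y⁆ * g⁻¹ = β at f2 f3 b1 b2
  generalize g * e * g⁻¹ = e' at f0 f1 f2 f3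
  obtain ⟨c1, c2⟩ := h.L2 ha hw hx n2.symm
  obtain ⟨-, c3⟩ := h.L2 ha hx hw n2
  rw [← commutatorElement_inv, inv_mem_iff] at c3
  have c4 := h.k1_eq h.k (h.nA hy.adj ha) (h.k1_third h.k ha hw.adj hm hy.adj n2.symm n3.symm n1 c1
    c2 c3) b1 (fun e => c2 (e ▸ one_mem _)) b2
  have f4 := mul_mem f0 (h.rt_Q ha hw)
  have f5 := t3 _ (h.EC ha hx f4 (commutatorElement_eq_one_iff_commute.1 (by
    rw [show ⁅e' * w, x⁆ = e' * ⁅w, x⁆ * e'⁻¹ * ⁅e', x⁆ by group, cj_eq (h.Z_comm ha c1 f0), c4, f2]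
    exact h.Z_sq ha (h.Z_le ha hy.adj b1))))
  obtain ⟨d1, d2⟩ := h.L2 ha hw hy n3.symm
  obtain ⟨-, d3⟩ := h.L2 ha hy hw n3
  rw [← commutatorElement_inv, inv_mem_iff] at d3
  have d4 := h.k1_third h.k ha hw.adj hy.adj hm n3.symm n2.symm n1.symm d1 d2 d3
  rw [show ⁅e' * w, w⁆ = ⁅e', w⁆ by group, f3, show ⁅e' * w, y⁆ = e' * ⁅w, y⁆ * e'⁻¹ * ⁅e', y⁆ by group,
    f1, mul_one, cj_eq (h.Z_comm ha d1 f0), cj_eq (h.Z_cent (h.nA hm ha) d4 t5)] at f5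
  exact d3 (((Z n).mul_mem_cancel_left (inv_mem b1)).1 f5)

end H

theorem bound {a m : V} (ha : A a) (hm : Γ.Adj a m) :
    Nat.card (stabilizer G a ⊓ stabilizer G m : Subgroup G) ≤ 128 := by
  obtain ⟨n, k, hn, hk, n1, n2, n3⟩ := h.exists_two hm
  obtain ⟨x, hx⟩ := h.exists_rt ha hm
  obtain ⟨y, hy⟩ := h.exists_rt ha hn
  obtain ⟨w, hw⟩ := h.exists_rt ha hk
  have := h.finQ a
  have : Finite (Z a) := finite_of_le (h.Z_le_Q ha)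
  have z1 := card_le_two_mul (H := Z a) (Z m) (h.k a m ha hm)
  have : Finite (Z a ⊓ Z m : Subgroup G) := finite_of_le inf_le_left
  have z2 := card_le_two_mul (H := Z a ⊓ Z m) (Z n) fun s hs t ht => h.k a n ha hn s hs.1 t ht.1
  rw [show Z a ⊓ Z m ⊓ Z n = ⊥ from eq_bot_iff.2 fun s hs => h.Z_inf ha hm hn n1 hs.1.2 hs.2,
    card_bot] at z2
  have z3 : Nat.card (Z a) ≤ 4 := by omega
  set T := stabilizer G a ⊓ stabilizer G m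
  have e1 := h.card_step hm T inf_le_left inf_le_right
  have : Finite (T ⊓ Q a : Subgroup G) := finite_of_le inf_le_right
  have e2 := card_le_mul_centralizer (H := T ⊓ Q a) (Z := Z a) x fun q hq => h.L4 ha hx hq.2
  have : Finite (T ⊓ Q a ⊓ centralizer {x} : Subgroup G) := finite_of_le inf_le_left
  have e3 := card_le_mul_centralizer (H := T ⊓ Q a ⊓ centralizer {x}) (Z := Z a) (y * w)
    fun q hq => by
      rw [show ⁅q, y * w⁆ = ⁅q, y⁆ * (y * ⁅q, w⁆ * y⁻¹) by group]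
      exact mul_mem (h.L4 ha hy hq.1.2) (h.eqZ.self (h.Q_le_self a (h.rt_Q ha hy)) (h.L4 ha hw hq.1.2))
  have e4 := card_le_of_le (show T ⊓ Q a ⊓ centralizer {x} ⊓ centralizer {y * w} ≤ Z a from
    fun e he => h.C4 ha hm n1 n2 n3 hy hw hx he.1.1.2 (mem_centralizer_singleton_iff.1 he.1.2)
      (mem_centralizer_singleton_iff.1 he.2))
  have e5 := e3.trans (Nat.mul_le_mul z3 (e4.trans z3))
  have e6 := e2.trans (Nat.mul_le_mul z3 e5)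
  omega

end Loc3

theorem Am.bound {G V : Type*} [Group G] [MulAction G V] {Γ : SimpleGraph V} {A : V → Prop}
    {Q Z : V → Subgroup G} (h : Am Γ A Q Z) {a m : V} (ha : A a) (hm : Γ.Adj a m) :
    Nat.card (stabilizer G a ⊓ stabilizer G m : Subgroup G) ≤ 128 := by
  have hex : ∃ n, ∃ x y, A x ∧ Γ.dist x y = n ∧ ¬ Z x ≤ Q y := by
    by_contra hc
    push Not at hc
    obtain ⟨g, hg, e⟩ : ∃ g ∈ stabilizer G a, g ∉ stabilizer G m := by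
      obtain ⟨c, h1, h2⟩ := h.exists_other hm
      obtain ⟨g, h3, rfl⟩ := h.trans hm h1
      exact ⟨g, h3, h2⟩
    let N : Subgroup G := ⨆ x, ⨆ (_ : A x), Z x
    have hN : ∀ y, N ≤ stabilizer G y := fun y =>
      iSup₂_le fun x hx => (hc _ x y hx rfl).trans (h.Q_le_self y)
    have hn : ∀ K : Subgroup G, K ≤ normalizer (N : Set G) := fun K =>
      LocStr.le_normalizer_of_forall fun g _ => conjS_le_iff_forall.1 (by
        rw [conjS_iSup]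
        refine iSup_le fun x => ?_
        rw [conjS_iSup]
        exact iSup_le fun hx => conjS_le_iff_forall.2 fun u hu =>
          le_iSup₂ (f := fun x (_ : A x) => Z x) _ ((h.A_smul g x).2 hx) (h.eqZ g u x hu))
    have := h.faithful hm (le_inf (hN _) (hN _)) (hn _) (hn _)
    exact h.Z_ne_bot ha (eq_bot_iff.2 (this ▸ le_iSup₂ (f := fun x (_ : A x) => Z x) a ha))
  classical
  obtain ⟨x, y, hx, hd, hc⟩ := Nat.find_spec hex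
  have hb : CD Γ A Q Z (Nat.find hex) := fun x y hx hxy => by
    by_contra hh
    exact Nat.find_min hex (by unfold Nr at hxy; omega) ⟨x, y, hx, rfl, hh⟩
  obtain ⟨v, hv, rfl, rfl, -⟩ := h.exists_arc_dist _ hd
  generalize hB : ((Nat.find hex : ℕ) : ℤ) = b at hb hc
  have h0 : b ≠ 0 := by rintro rfl; exact hc (h.Z_le_Q hx)
  have h1 : b ≠ 1 := by rintro rfl; exact hc (h.one hx (hv.adj 0 1))
  by_cases hev : b % 2 = 0
  · by_cases h4 : 4 ≤ b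
    · exact (h.ev_false hb hev (by omega) h4 hv hx hc).elim
    · obtain rfl : b = 2 := by omega
      exact h.bound_two hb hv hx hc ha hm
  · obtain rfl := h.eq_three hb (by omega) (by omega) hv hx hc
    exact (h.loc3 hb hv hx hc).bound ha hm

end CfsgLib.Gam
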