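import Mathlib
import Cfsg.Agent.Lib.Gam.Three
import Cfsg.Agent.Lib.LAE.PRed

/-!
Goldschmidt's bound for amalgams of type `(S₃, S₃)`.
-/

set_option autoImplicit false
set_option linter.unusedSectionVars false

namespace CfsgLib.Gam

open Subgroup MulAction Cfsg CfsgLib.LAE CfsgLib.LocStr
open scoped commutatorElement

variable {G : Type*} [Group G]

/-- `A / O₂(A) ≅ S₃` with Sylow subgroup `T`. -/
structure SLoc (A T : Subgroup G) : Prop where
  fin : Finite A
  syl : IsSylowIn 2 T A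
  idx2 : (pCoreOf 2 A).relIndex T = 2
  idx3 : T.relIndex A = 3

namespace SLoc

variable {A T : Subgroup G} (h : SLoc A T)
include h

theorem conj (g : G) : SLoc (conjS g A) (conjS g T) where
  fin := have := h.fin; finite_conjS g A
  syl := h.syl.conj g
  idx2 := by rw [← conjS_pCoreOf, relIndex_conjS, h.idx2]
  idx3 := by rw [relIndex_conjS, h.idx3]

theorem conj_of_mem {g : G} (hg : g ∈ A) : SLoc A (conjS g T) := by
  have := h.conj g
  rwa [conjS_eq_of_mem hg] at this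

theorem Q_le : pCoreOf 2 A ≤ T := h.syl.pCoreOf_le

theorem le_of_max {g : G} {K : Subgroup G} (hg : g ∈ A) (hgT : g ∉ T) (hT : T ≤ K) (hK : g ∈ K) :
    A ≤ K := by
  rcases Core.eq_or_eq_of_relIndex_prime (H := T) (L := A ⊓ K) (K := A)
    (by rw [h.idx3]; decide) (le_inf h.syl.le hT) inf_le_left with h1 | h1
  · exact absurd (h1 ▸ (⟨hg, hK⟩ : g ∈ A ⊓ K)) hgT
  · exact h1 ▸ inf_le_right

theorem exists_not_mem : ∃ t ∈ T, t ∉ pCoreOf 2 A := by
  by_contra hh; push Not at hh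
  have := relIndex_eq_one.2 (show T ≤ pCoreOf 2 A from hh)
  rw [h.idx2] at this
  exact absurd this (by decide)

theorem mem_Q {g x : G} (hg : g ∈ A) (hgT : g ∉ T) (hx : x ∈ T) (hx' : x ∈ conjS g T) :
    x ∈ pCoreOf 2 A := by
  have := h.fin
  have := finite_of_le h.syl.le
  rcases Core.eq_or_eq_of_relIndex_prime (H := pCoreOf 2 A) (L := T ⊓ conjS g T) (K := T)
    (by rw [h.idx2]; decide) (le_inf h.Q_le (h.conj_of_mem hg).Q_le) inf_le_left with h1 | h1
  · exact h1 ▸ (⟨hx, hx'⟩ : x ∈ T ⊓ conjS g T)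
  · have h2 : T ≤ conjS g T := inf_eq_left.1 h1
    have h3 : g ∈ normalizer (T : Set G) := by
      rw [mem_normalizer_iff_conjS]
      exact h.syl.eq_of_le _ (isPGroup_conjS h.syl.isPGroup g) h2 (h.conj_of_mem hg).syl.le
    exact le_pCoreOf h.syl.isPGroup h.syl.le (h.le_of_max hg hgT le_normalizer h3) hx

theorem mul_mem {x y : G} (hx : x ∈ T) (hy : y ∈ T) (hx' : x ∉ pCoreOf 2 A)
    (hy' : y ∉ pCoreOf 2 A) : x * y ∈ pCoreOf 2 A :=
  mul_mem_of_relIndex_two h.idx2 hx hy hx' hy'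

theorem norm_of_not_charP (hc : ¬ IsCharP 2 A) {N : Subgroup G} (hN : N ≤ pCoreOf 2 A)
    (hn : T ≤ normalizer (N : Set G)) : A ≤ normalizer (N : Set G) := by
  by_cases hK : A ⊓ centralizer (pCoreOf 2 A : Set G) ≤ T
  · exact absurd (le_pCoreOf (h.syl.isPGroup.to_le hK) inf_le_left (le_normalizer_inf le_normalizer
      (le_normalizer_centralizer (le_normalizer_pCoreOf A)))) hc
  · obtain ⟨g, hg, hg'⟩ := SetLike.not_le_iff_exists.1 hK
    exact h.le_of_max hg.1 hg' hn (centralizer_le_normalizer _ (centralizer_anti hN hg.2))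

theorem comm {x t : G} (hx : x ∈ omegaZ 2 (pCoreOf 2 A)) (ht : t ∈ T) : ⁅t, x⁆ ∈ omegaZ 2 T := by
  have hn := le_normalizer_omegaZ_of_le (p := 2) (le_normalizer_pCoreOf (p := 2) A)
  have h1 := conj_mem_of_mem_normalizer (hn (h.syl.le ht)) hx
  have h2 : ⁅t, x⁆ ∈ omegaZ 2 (pCoreOf 2 A) := Subgroup.mul_mem _ h1 (inv_mem hx)
  have c : ∀ {y q : G}, y ∈ omegaZ 2 (pCoreOf 2 A) → q ∈ pCoreOf 2 A → Commute q y :=
    fun hy hq => (mem_omegaZ.1 hy).2.1 _ hq
  refine mem_omegaZ.2 ⟨h.Q_le (omegaZ_le _ h2), fun g hg => ?_, (mem_omegaZ.1 h2).2.2⟩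
  by_cases h3 : t ∈ pCoreOf 2 A
  · rw [(c hx h3).commutator_eq]; simp
  have h4 : Commute t ⁅t, x⁆ := comm_of_cj (by
    have e1 := cj_eq (c hx (h.mul_mem ht ht h3 h3))
    have e2 := (c hx (omegaZ_le _ h1)).eq
    have e3 : x⁻¹ = x := inv_eq_of_mul_eq_one_right (by rw [← pow_two]; exact (mem_omegaZ.1 hx).2.2)
    rw [commutatorElement_def, e3]
    calc _ = (t * t * x * (t * t)⁻¹) * (t * x * t⁻¹) := by group
      _ = _ := by rw [e1, e2])
  by_cases h5 : g ∈ pCoreOf 2 A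
  · exact c h2 h5
  · exact comm_of_mul h4 (c h2 (h.mul_mem hg ht h5 h3))

end SLoc

theorem sLoc_of_quotient {A T : Subgroup G} [Finite A] (h2 : IsSylowIn 2 T A)
    (h3 : Nonempty (A ⧸ pCore 2 A ≃* Equiv.Perm (Fin 3))) : SLoc A T := by
  obtain ⟨e⟩ := h3
  have h6 : (pCoreOf 2 A).relIndex T * T.relIndex A = 6 := by
    rw [relIndex_mul_relIndex _ _ _ h2.pCoreOf_le h2.le, relIndex, pCoreOf_subgroupOf,
      index_eq_card, Nat.card_congr e.toEquiv, Nat.card_perm]
    simp [Nat.factorial]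
  have h7 := h2.not_dvd_relIndex
  have h8 : ¬ 3 ∣ (pCoreOf 2 A).relIndex T := fun hd => by
    have := finite_of_le h2.le
    obtain ⟨n, hn⟩ := IsPGroup.iff_card.1 h2.isPGroup
    have := hd.trans (relIndex_dvd_card _ _)
    rw [hn] at this
    exact absurd (Nat.prime_three.dvd_of_dvd_pow this) (by decide)
  have h9 : T.relIndex A ∣ 6 := Dvd.intro_left _ h6
  have h10 := Nat.le_of_dvd (by decide) h9
  have : (pCoreOf 2 A).relIndex T = 2 ∧ T.relIndex A = 3 := by
    interval_cases hh : T.relIndex A <;> omega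
  exact ⟨inferInstance, h2, this.1, this.2⟩

/-- A faithful amalgam of type `(S₃, S₃)`. -/
structure Edge (A B : Subgroup G) : Prop where
  faithful : FaithfulPair A B
  left : SLoc A (A ⊓ B)
  right : SLoc B (A ⊓ B)

namespace Edge

variable {A B : Subgroup G} (h : Edge A B)
include h

theorem symm : Edge B A :=
  ⟨h.faithful.symm, by rw [inf_comm]; exact h.right, by rw [inf_comm]; exact h.left⟩

theorem conj (g : G) : Edge (conjS g A) (conjS g B) :=
  ⟨h.faithful.conj g, by rw [← conjS_inf]; exact h.left.conj g,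
    by rw [← conjS_inf]; exact h.right.conj g⟩

theorem adj {δ μ : CosetVertex A B} (hadj : (cosetGraph A B).Adj δ μ) :
    Edge (stabilizer G δ) (stabilizer G μ) :=
  edge_induction (P := Edge) h (fun _ _ h => h.symm) (fun _ _ g h => h.conj g) hadj

theorem cub : Cub (cosetGraph A B) (fun δ => δ.isLeft = true)
    (fun δ => pCoreOf 2 (stabilizer G δ)) := by
  have hinf : ∀ {d a : CosetVertex A B} {g : G}, g ∈ stabilizer G d →
      conjS g (stabilizer G d ⊓ stabilizer G a) = stabilizer G d ⊓ stabilizer G (g • a) :=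
    fun hg => by rw [conjS_inf, conjS_eq_of_mem hg, stabilizer_smul_eq]
  have hsm : ∀ {a : CosetVertex A B} {g k : G}, g⁻¹ * k ∈ stabilizer G a ↔ k • a = g • a :=
    fun {a g k} => by rw [mem_stabilizer_iff, mul_smul, inv_smul_eq_iff]
  refine
    { conn := coset_connected h.faithful.1
      adj_smul := fun g hab => coset_adj_smul hab g
      trans := exists_smul_eq_of_adj
      three := fun {d a b c e} ha hb hc he hab hac hbc => ?_
      exists_two := fun {d a} ha => ?_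
      exists_adj := exists_adj
      orbit := fun {a c} hac => ?_
      A_smul := fun g a => by cases a <;> rfl
      A_adj := fun hab => by
        obtain ⟨x, ⟨rfl, rfl⟩ | ⟨rfl, rfl⟩⟩ := coset_adj_iff.1 hab <;> simp
      fin := fun a => (exists_adj a).elim fun _ hab => (h.adj hab).left.fin
      Q_smul := fun g a => by rw [stabilizer_smul_eq, conjS_pCoreOf]
      Q_le_self := fun a => pCoreOf_le _
      Q_le := fun hab => (h.adj hab).left.Q_le.trans inf_le_right
      mem_Q := fun {d a b g} ha hb hab h1 h2 h3 => ?_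
      mul_mem := fun ha h1 h2 h3 h4 h5 h6 => (h.adj ha).left.mul_mem ⟨h1, h2⟩ ⟨h3, h4⟩ h5 h6
      le_of_max := fun ha h1 h2 h3 h4 => (h.adj ha).left.le_of_max h1 (fun hm => h2 hm.2) h3 h4
      faithful := fun hab h1 h2 h3 => (h.adj hab).faithful.eq_bot_of_normalizer h1 h2 h3 }
  · obtain ⟨g, hg, rfl⟩ := exists_smul_eq_of_adj ha hb
    obtain ⟨k, hk, rfl⟩ := exists_smul_eq_of_adj ha hc
    obtain ⟨l, hl, rfl⟩ := exists_smul_eq_of_adj ha he
    rcases three_of_relIndex_three (h.adj ha).left.idx3 hg hk hl (fun hm => hab hm.2.symm)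
      (fun hm => hac hm.2.symm) (fun hm => hbc (hsm.1 hm.2).symm) with h1 | h1 | h1
    · exact Or.inl h1.2
    · exact Or.inr (Or.inl (hsm.1 h1.2))
    · exact Or.inr (Or.inr (hsm.1 h1.2))
  · obtain ⟨g, hg, k, hk, h1, h2, h3⟩ := exists_two_of_relIndex_three (h.adj ha).left.idx3
    have h4 := coset_adj_smul ha g
    have h5 := coset_adj_smul ha k
    rw [mem_stabilizer_iff.1 hg] at h4
    rw [mem_stabilizer_iff.1 hk] at h5
    exact ⟨_, _, h4, h5, fun e => h1 ⟨hg, e.symm⟩, fun e => h2 ⟨hk, e.symm⟩,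
      fun e => h3 ⟨Subgroup.mul_mem _ (Subgroup.inv_mem _ hg) hk, hsm.2 e.symm⟩⟩
  · rcases a with a | a <;> rcases c with c | c <;> obtain ⟨x, rfl⟩ := QuotientGroup.mk_surjective a <;>
      obtain ⟨y, rfl⟩ := QuotientGroup.mk_surjective c
    · exact ⟨y * x⁻¹, by rw [smul_inl_coe, inv_mul_cancel_right]⟩
    · simp at hac
    · simp at hac
    · exact ⟨y * x⁻¹, by rw [smul_inr_coe, inv_mul_cancel_right]⟩
  · obtain ⟨k, hk, rfl⟩ := exists_smul_eq_of_adj ha hb
    exact (h.adj ha).left.mem_Q hk (fun hm => hab hm.2.symm) ⟨h1, h2⟩ (by rw [hinf hk]; exact ⟨h1, h3⟩)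

theorem not_Q_le (hB : IsCharP 2 B) : ¬ pCoreOf 2 A ≤ pCoreOf 2 B := fun hle => by
  rcases Core.eq_or_eq_of_relIndex_prime (H := pCoreOf 2 A) (L := pCoreOf 2 B) (K := A ⊓ B)
    (by rw [h.left.idx2]; decide) hle h.right.Q_le with h1 | h1
  · have h0 := h.faithful.eq_bot_of_normalizer h.right.Q_le (h1 ▸ le_normalizer_pCoreOf A)
      (le_normalizer_pCoreOf B)
    obtain ⟨t, ht, ht'⟩ := h.right.exists_not_mem
    exact ht' (hB ⟨ht.2, by rw [h0]; simp [mem_centralizer_iff]⟩)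
  · obtain ⟨t, ht, ht'⟩ := h.right.exists_not_mem
    exact ht' (h1 ▸ ht)

theorem bound_of_not_charP (hB : ¬ IsCharP 2 B) : Nat.card (A ⊓ B : Subgroup G) ≤ 16 := by
  have := h.cub.card_le_of_small (coset_adj (M₁ := A) (M₂ := B) 1)
  simp only [stabilizer_inl, stabilizer_inr, conjS_one] at this
  exact this fun N h1 h2 => h.right.norm_of_not_charP hB h1 h2

end Edge

/-- An amalgam in which `Ω₁(Z(T))` is central in the second member. -/
structure AEdge (A B : Subgroup G) : Prop extends Edge A B where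
  cA : IsCharP 2 A
  cB : IsCharP 2 B
  cent : B ≤ centralizer (omegaZ 2 (A ⊓ B) : Set G)

namespace AEdge

variable {A B : Subgroup G} (h : AEdge A B)
include h

theorem conj' (g : G) : AEdge (conjS g A) (conjS g B) :=
  ⟨h.conj g, h.cA.conj g, h.cB.conj g, by
    rw [← conjS_inf, ← conjS_omegaZ, ← conjS_centralizer, conjS_le_conjS_iff]; exact h.cent⟩

theorem om {x : G} (hx : x ∈ omegaZ 2 (A ⊓ B)) : x ∈ omegaZ 2 B :=
  mem_omegaZ.2 ⟨(omegaZ_le _ hx).2, fun _ hg => (h.cent hg x hx).symm, (mem_omegaZ.1 hx).2.2⟩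

theorem Z_le : omegaZ 2 B ≤ omegaZ 2 (pCoreOf 2 A) := fun x hx => by
  obtain ⟨h1, h2, h3⟩ := mem_omegaZ.1 hx
  have h4 := centralizer_anti (h.left.Q_le.trans inf_le_right) h2
  exact mem_omegaZ.2 ⟨h.cA ⟨(h.right.Q_le (h.cB ⟨h1, centralizer_anti (pCoreOf_le B) h2⟩)).1, h4⟩,
    h4, h3⟩

theorem one : omegaZ 2 (pCoreOf 2 A) ≤ pCoreOf 2 B := by
  have := h.right.fin
  have h1 : omegaZ 2 (pCoreOf 2 A) ≤ B := (omegaZ_le _).trans (h.left.Q_le.trans inf_le_right)
  have h2 := nclIn_le_of_le h1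
  have := finite_of_le h2
  have hn : B ≤ normalizer (omegaZ 2 B : Set G) := le_normalizer_omegaZ_of_le le_normalizer
  have h3 := commutator_nclIn_le (h1.trans hn) (le_normalizer_pCoreOf (p := 2) B) hn (by
    rw [commutator_comm]
    exact commutator_le.2 fun q hq x hx => h.om (h.left.comm hx (h.right.Q_le hq)))
  rw [commutator_comm] at h3
  exact (le_nclIn _ B).trans (le_pCoreOf (h.cB.isPGroup_of_commutator_le h2
    ((commutator_mono le_rfl (pResOf_le _)).trans h3)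
    ((pResOf_le _).trans (h2.trans (le_centralizer_omegaZ B)))) h2 (le_normalizer_nclIn _ B))

theorem meet {N : Subgroup G} (h1 : N ≤ A ⊓ B) (h2 : A ⊓ B ≤ normalizer (N : Set G)) (h3 : N ≠ ⊥) :
    ∃ z ∈ N, z ∈ omegaZ 2 B ∧ z ≠ 1 := by
  have := h.left.fin
  have : Finite (A ⊓ B : Subgroup G) := finite_of_le inf_le_left
  have := finite_of_le h1
  have hN := h.left.syl.isPGroup.to_le h1
  have : Finite (N ⊓ centralizer ((A ⊓ B : Subgroup G) : Set G) : Subgroup G) :=
    finite_of_le inf_le_left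
  obtain ⟨⟨z, hz⟩, h4⟩ := ne_bot_iff_exists_ne_one.1 (omegaZ_ne_bot (hN.to_le inf_le_left)
    (inf_centralizer_ne_bot hN h.left.syl.isPGroup h2 h3))
  obtain ⟨h5, -, h6⟩ := mem_omegaZ.1 hz
  exact ⟨z, h5.1, h.om (mem_omegaZ.2 ⟨h1 h5.1, h5.2, h6⟩), fun e => h4 (Subtype.ext e)⟩

theorem am : Am (cosetGraph A B) (fun δ => δ.isLeft = true) (fun δ => pCoreOf 2 (stabilizer G δ))
    (fun δ => if δ.isLeft = true then omegaZ 2 (pCoreOf 2 (stabilizer G δ))
      else omegaZ 2 (stabilizer G δ)) := by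
  have ad : ∀ {a b : CosetVertex A B}, a.isLeft = true → (cosetGraph A B).Adj a b →
      AEdge (stabilizer G a) (stabilizer G b) ∧ ¬ b.isLeft = true := fun ha hab => by
    obtain ⟨x, ⟨rfl, rfl⟩ | ⟨rfl, rfl⟩⟩ := coset_adj_iff.1 hab
    · rw [stabilizer_inl, stabilizer_inr]
      exact ⟨h.conj' x, by simp⟩
    · simp at ha
  refine
    { h.cub with
      not_Q_le := fun {a b} hab => (h.adj hab).not_Q_le ?_
      eqZ := fun g x a hx => ?_
      Z_le := fun ha hab => by rw [if_pos ha, if_neg (ad ha hab).2]; exact (ad ha hab).1.Z_le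
      Z_cent := fun hb hz hg => by rw [if_neg hb] at hz; exact (mem_omegaZ.1 hz).2.1 _ hg
      Z_le_Q := fun ha => by rw [if_pos ha]; exact omegaZ_le _
      Z_comm := fun ha hz hq => by rw [if_pos ha] at hz; exact (mem_omegaZ.1 hz).2.1 _ hq
      Z_sq := fun ha hz => by rw [if_pos ha] at hz; rw [← pow_two]; exact (mem_omegaZ.1 hz).2.2
      omega := fun ha hab h1 h2 h3 h4 => by
        rw [if_neg (ad ha hab).2]
        exact (ad ha hab).1.om (mem_omegaZ.2 ⟨⟨h1, h2⟩, fun g hg => h4 g hg.1 hg.2,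
          by rw [pow_two, h3]⟩)
      omegaQ := fun ha h1 h2 h3 => by
        rw [if_pos ha]
        exact mem_omegaZ.2 ⟨h1, h3, by rw [pow_two, h2]⟩
      meet := fun ha hab h1 h2 h3 => by
        simp only [if_neg (ad ha hab).2]
        exact (ad ha hab).1.meet h1 h2 h3
      one := fun ha hab => by rw [if_pos ha]; exact (ad ha hab).1.one }
  · by_cases ha : a.isLeft = true
    · exact (ad ha hab).1.cB
    · exact (ad (h.cub.yA hab ha) hab.symm).1.cA
  · by_cases ha : a.isLeft = true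
    · simp only [if_pos ha, if_pos ((h.cub.A_smul g a).2 ha)] at hx ⊢
      rw [stabilizer_smul_eq, ← conjS_pCoreOf, ← conjS_omegaZ]
      exact conj_mem_conjS.2 hx
    · simp only [if_neg ha, if_neg (fun e => ha ((h.cub.A_smul g a).1 e))] at hx ⊢
      rw [stabilizer_smul_eq, ← conjS_omegaZ]
      exact conj_mem_conjS.2 hx

theorem bound : Nat.card (A ⊓ B : Subgroup G) ≤ 128 := by
  have := h.am.bound rfl (coset_adj (M₁ := A) (M₂ := B) 1)
  simpa only [stabilizer_inl, stabilizer_inr, conjS_one] using this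

end AEdge

/-- Goldschmidt's bound. -/
theorem Edge.bound {A B : Subgroup G} (h : Edge A B) : Nat.card (A ⊓ B : Subgroup G) ≤ 128 := by
  by_cases hB : IsCharP 2 B
  swap
  · exact (h.bound_of_not_charP hB).trans (by norm_num)
  by_cases hA : IsCharP 2 A
  swap
  · rw [inf_comm]
    exact (h.symm.bound_of_not_charP hA).trans (by norm_num)
  by_cases h1 : B ≤ centralizer (omegaZ 2 (A ⊓ B) : Set G)
  · exact AEdge.bound ⟨h, hA, hB, h1⟩
  by_cases h2 : A ≤ centralizer (omegaZ 2 (A ⊓ B) : Set G)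
  · rw [inf_comm] at h2 ⊢
    exact AEdge.bound ⟨h.symm, hB, hA, h2⟩
  have := h.left.fin
  have h3 := card_le_of_le (inf_le_left : A ⊓ B ≤ A)
  rcases CubEdge.equiv ⟨h.faithful, ⟨h.left.fin, hA, h.left.syl, h.left.idx2, h.left.idx3, h2⟩,
    ⟨h.right.fin, hB, h.right.syl, h.right.idx2, h.right.idx3, h1⟩⟩ with ⟨⟨e⟩, -⟩ | ⟨⟨e⟩, -⟩ <;>
    rw [Nat.card_congr e.toEquiv] at h3 <;>
    exact h3.trans (by simp [Fintype.card_perm, Nat.factorial])

end CfsgLib.Gam
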